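import Cfsg.Agent.TitsThree.KSideA
import Cfsg.Agent.OddHalf.D7Ex.Move
import Cfsg.Agent.OddHalf.D7Ex.SetupOf
import Cfsg.Agent.KFacts.SLRow.Psl
import Cfsg.Agent.OddHalf.SL.Index

-- merged: Cfsg.Agent.OddHalf.D7An.Mat
section

/-!
# Transvections in `SL ι F` in coordinate-free form (ODD D7, type `A_n`; helper991)

* `Tr u φ = 1 + u φ` (`φ(u) = 0`), `conj_Tr`, `Tr_mul`, `Tr_mul'`;
* `emb` : `SL` of the complement of `{a, b}`; `emb_mem` : it is generated by root elements.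
-/

set_option autoImplicit false
set_option linter.unusedSectionVars false

namespace Cfsg.Agent.OddHalf.D7An.Mat

open Matrix Cfsg.Agent.LieClassical.SLGen
open Cfsg.Agent.TitsThree.KSideA (tv tv_of_ne tv_add tv_zero tv_neg)

variable {ι F : Type*} [Field F] [DecidableEq ι] [Fintype ι]

theorem det_one_add_vecMulVec (u φ : ι → F) : (1 + vecMulVec u φ).det = 1 + φ ⬝ᵥ u := by
  rw [vecMulVec_eq Unit, det_one_add_replicateCol_mul_replicateRow]

theorem slext {A B : SpecialLinearGroup ι F} (h : A.1 = B.1) : A = B := Subtype.ext h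

theorem mulv (A B : SpecialLinearGroup ι F) : (A * B).1 = A.1 * B.1 := rfl

/-- The transvection `1 + u φ`. -/
def Tr' (u φ : ι → F) (h : φ ⬝ᵥ u = 0) : SpecialLinearGroup ι F :=
  ⟨1 + vecMulVec u φ, by rw [det_one_add_vecMulVec, h, add_zero]⟩

open Classical in
/-- The transvection `1 + u φ` (`1` if `φ(u) ≠ 0`). -/
noncomputable def Tr (u φ : ι → F) : SpecialLinearGroup ι F :=
  if h : φ ⬝ᵥ u = 0 then Tr' u φ h else 1

theorem Tr_val {u φ : ι → F} (h : φ ⬝ᵥ u = 0) : (Tr u φ).1 = 1 + vecMulVec u φ := by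
  have : Tr u φ = Tr' u φ h := dif_pos h
  rw [this]; rfl

theorem Tr_apply {u φ : ι → F} (h : φ ⬝ᵥ u = 0) (i j : ι) : (Tr u φ).1 i j = (1 : Matrix ι ι F) i j + u i * φ j := by
  rw [Tr_val h]; rfl

theorem vecMulVec_mul_self {u φ φ' : ι → F} {u' : ι → F} (h : φ ⬝ᵥ u' = 0) :
    vecMulVec u φ * vecMulVec u' φ' = 0 := by
  rw [vecMulVec_mul_vecMulVec, h, zero_smul]
  ext i j
  simp [vecMulVec_apply]

theorem Tr_mul {u φ φ' : ι → F} (h : φ ⬝ᵥ u = 0) (h' : φ' ⬝ᵥ u = 0) : Tr u φ * Tr u φ' = Tr u (φ + φ') := by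
  apply slext
  have h'' : (φ + φ') ⬝ᵥ u = 0 := by rw [add_dotProduct, h, h', add_zero]
  rw [mulv, Tr_val h, Tr_val h', Tr_val h'', add_mul, mul_add, mul_add, vecMulVec_mul_self h,
    vecMulVec_add]
  simp only [one_mul, mul_one, add_zero]
  abel

theorem Tr_mul' {u u' φ : ι → F} (h : φ ⬝ᵥ u = 0) (h' : φ ⬝ᵥ u' = 0) : Tr u φ * Tr u' φ = Tr (u + u') φ := by
  apply slext
  have h'' : φ ⬝ᵥ (u + u') = 0 := by rw [dotProduct_add, h, h', add_zero]
  rw [mulv, Tr_val h, Tr_val h', Tr_val h'', add_mul, mul_add, mul_add, vecMulVec_mul_self h',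
    add_vecMulVec]
  simp only [one_mul, mul_one, add_zero]
  abel

theorem Tr_zero (u : ι → F) : Tr u 0 = 1 := by
  apply slext
  rw [Tr_val (zero_dotProduct u)]
  ext i j
  simp

theorem Tr_zero' (φ : ι → F) : Tr 0 φ = 1 := by
  apply slext
  rw [Tr_val (dotProduct_zero φ)]
  ext i j
  simp

theorem Tr_neg {u φ : ι → F} (h : φ ⬝ᵥ u = 0) : Tr u (-φ) = (Tr u φ)⁻¹ := by
  rw [eq_inv_iff_mul_eq_one, Tr_mul (by rw [neg_dotProduct, h, neg_zero]) h, neg_add_cancel, Tr_zero]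

theorem Tr_neg' {u φ : ι → F} (h : φ ⬝ᵥ u = 0) : Tr (-u) φ = (Tr u φ)⁻¹ := by
  rw [eq_inv_iff_mul_eq_one, Tr_mul' (by rw [dotProduct_neg, h, neg_zero]) h, neg_add_cancel, Tr_zero']

theorem Tr_mulVec {u φ : ι → F} (h : φ ⬝ᵥ u = 0) (v : ι → F) : (Tr u φ).1 *ᵥ v = v + (φ ⬝ᵥ v) • u := by
  rw [Tr_val h, add_mulVec, one_mulVec, vecMulVec_mulVec]
  congr 1
  funext i
  simp [mul_comm]

theorem vecMul_Tr {u φ : ι → F} (h : φ ⬝ᵥ u = 0) (ψ : ι → F) : ψ ᵥ* (Tr u φ).1 = ψ + (ψ ⬝ᵥ u) • φ := by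
  rw [Tr_val h, vecMul_add, vecMul_one, vecMul_vecMulVec]

theorem coe_inv_mul (g : SpecialLinearGroup ι F) : (g⁻¹).1 * g.1 = 1 :=
  congrArg (fun g : SpecialLinearGroup ι F => g.1) (inv_mul_cancel g)

theorem coe_mul_inv (g : SpecialLinearGroup ι F) : g.1 * (g⁻¹).1 = 1 :=
  congrArg (fun g : SpecialLinearGroup ι F => g.1) (mul_inv_cancel g)

theorem inv_dot (g : SpecialLinearGroup ι F) (φ u : ι → F) : (φ ᵥ* (g⁻¹).1) ⬝ᵥ (g.1 *ᵥ u) = φ ⬝ᵥ u := by
  rw [← dotProduct_mulVec, mulVec_mulVec, coe_inv_mul, one_mulVec]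

/-- Conjugation. -/
theorem conj_Tr (g : SpecialLinearGroup ι F) {u φ : ι → F} (h : φ ⬝ᵥ u = 0) :
    g * Tr u φ * g⁻¹ = Tr (g.1 *ᵥ u) (φ ᵥ* (g⁻¹).1) := by
  apply slext
  have h' : (φ ᵥ* (g⁻¹).1) ⬝ᵥ (g.1 *ᵥ u) = 0 := by rw [inv_dot, h]
  rw [mulv, mulv, Tr_val h, Tr_val h', mul_add, mul_one, add_mul,
    coe_mul_inv, mul_vecMulVec, vecMulVec_mul]

theorem Tr_inj {u φ φ' : ι → F} {i : ι} (hu : u i ≠ 0) (h : φ ⬝ᵥ u = 0) (h' : φ' ⬝ᵥ u = 0) (e : Tr u φ = Tr u φ') :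
    φ = φ' := by
  funext j
  have := congrArg (fun g : SpecialLinearGroup ι F => g.1 i j) e
  simp only [Tr_apply h, Tr_apply h'] at this
  exact mul_left_cancel₀ hu (add_left_cancel this)

theorem Tr_inj' {u u' φ : ι → F} {j : ι} (hφ : φ j ≠ 0) (h : φ ⬝ᵥ u = 0) (h' : φ ⬝ᵥ u' = 0) (e : Tr u φ = Tr u' φ) :
    u = u' := by
  funext i
  have := congrArg (fun g : SpecialLinearGroup ι F => g.1 i j) e
  simp only [Tr_apply h, Tr_apply h'] at this
  exact mul_right_cancel₀ hφ (add_left_cancel this)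

/-- Root elements. -/
theorem tv_eq {i j : ι} (hij : i ≠ j) (c : F) : tv i j c = Tr (Pi.single i 1) (Pi.single j c) := by
  apply slext
  have h : (Pi.single j c : ι → F) ⬝ᵥ (Pi.single i 1) = 0 := by
    rw [single_dotProduct, Pi.single_eq_of_ne hij.symm, mul_zero]
  rw [Tr_val h, tv_of_ne hij]
  ext k l
  show (1 + Matrix.single i j c) k l = (1 + vecMulVec (Pi.single i 1) (Pi.single j c)) k l
  simp only [Matrix.add_apply, vecMulVec_apply, Matrix.single_apply, Pi.single_apply]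
  congr 1
  by_cases h1 : i = k
  · subst h1
    by_cases h2 : j = l
    · subst h2; simp
    · have h2' : ¬ l = j := fun h => h2 h.symm
      simp [h2, h2']
  · have h1' : ¬ k = i := fun h => h1 h.symm
    simp [h1, h1']

/-- A transvection with center `e_i` is a product of root elements. -/
theorem Tr_single_mem {H : Subgroup (SpecialLinearGroup ι F)} {i : ι} {S : Finset ι} (hi : i ∉ S)
    (hH : ∀ j ∈ S, ∀ c, tv i j c ∈ H) {φ : ι → F} (hφ : ∀ j, j ∉ S → φ j = 0) : Tr (Pi.single i 1) φ ∈ H := by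
  have key : ∀ T : Finset ι, T ⊆ S → Tr (Pi.single i 1) (∑ j ∈ T, Pi.single j (φ j)) ∈ H := by
    intro T
    induction T using Finset.induction_on with
    | empty => intro _; rw [Finset.sum_empty, Tr_zero]; exact one_mem _
    | insert j T hj ih =>
      intro hT
      rw [Finset.insert_subset_iff] at hT
      have hji : j ≠ i := fun h => hi (h ▸ hT.1)
      rw [Finset.sum_insert hj, ← Tr_mul]
      · rw [← tv_eq hji.symm]
        exact mul_mem (hH j hT.1 _) (ih hT.2)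
      · rw [single_dotProduct, Pi.single_eq_of_ne hji, mul_zero]
      · rw [dotProduct_single, mul_one, Finset.sum_apply]
        refine Finset.sum_eq_zero fun l hl => ?_
        rw [Pi.single_eq_of_ne]
        rintro rfl
        exact hi (hT.2 hl)
  have h1 := key S subset_rfl
  have h2 : ∑ j ∈ S, Pi.single j (φ j) = φ := by
    funext k
    rw [Finset.sum_apply]
    by_cases hk : k ∈ S
    · rw [Finset.sum_eq_single k]
      · rw [Pi.single_eq_same]
      · intro l _ hl; rw [Pi.single_eq_of_ne hl.symm]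
      · intro h; exact absurd hk h
    · rw [hφ k hk]
      refine Finset.sum_eq_zero fun l hl => ?_
      rw [Pi.single_eq_of_ne]
      rintro rfl
      exact hk hl
  rwa [h2] at h1

/-- A transvection with axis `e_j*` is a product of root elements. -/
theorem Tr_single_mem' {H : Subgroup (SpecialLinearGroup ι F)} {j : ι} {S : Finset ι} (hj : j ∉ S)
    (hH : ∀ i ∈ S, ∀ c, tv i j c ∈ H) {u : ι → F} (hu : ∀ i, i ∉ S → u i = 0) : Tr u (Pi.single j 1) ∈ H := by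
  have e1 : ∀ i (c : F), i ≠ j → Tr (Pi.single i c) (Pi.single j 1) = tv i j c := by
    intro i c hij
    rw [tv_eq hij]
    apply slext
    rw [Tr_val, Tr_val]
    · ext k l
      simp only [Matrix.add_apply, vecMulVec_apply, Pi.single_apply]
      by_cases h1 : k = i <;> by_cases h2 : l = j <;> simp [h1, h2]
    · rw [single_dotProduct, Pi.single_eq_of_ne hij.symm, mul_zero]
    · rw [single_dotProduct, Pi.single_eq_of_ne hij.symm, mul_zero]
  have key : ∀ T : Finset ι, T ⊆ S → Tr (∑ i ∈ T, Pi.single i (u i)) (Pi.single j 1) ∈ H := by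
    intro T
    induction T using Finset.induction_on with
    | empty => intro _; rw [Finset.sum_empty, Tr_zero']; exact one_mem _
    | insert i T hi ih =>
      intro hT
      rw [Finset.insert_subset_iff] at hT
      have hij : i ≠ j := fun h => hj (h ▸ hT.1)
      rw [Finset.sum_insert hi, ← Tr_mul']
      · rw [e1 i _ hij]
        exact mul_mem (hH i hT.1 _) (ih hT.2)
      · rw [single_dotProduct, Pi.single_eq_of_ne hij.symm, mul_zero]
      · rw [single_dotProduct, one_mul, Finset.sum_apply]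
        refine Finset.sum_eq_zero fun l hl => ?_
        rw [Pi.single_eq_of_ne]
        rintro rfl
        exact hj (hT.2 hl)
  have h1 := key S subset_rfl
  have h2 : ∑ i ∈ S, Pi.single i (u i) = u := by
    funext k
    rw [Finset.sum_apply]
    by_cases hk : k ∈ S
    · rw [Finset.sum_eq_single k]
      · rw [Pi.single_eq_same]
      · intro l _ hl; rw [Pi.single_eq_of_ne hl.symm]
      · intro h; exact absurd hk h
    · rw [hu k hk]
      refine Finset.sum_eq_zero fun l hl => ?_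
      rw [Pi.single_eq_of_ne]
      rintro rfl
      exact hk hl
  rwa [h2] at h1

/-! ### The Levi complement -/

section Emb

variable (p : ι → Prop) [DecidablePred p]

/-- The block matrix `D ⊕ 1`. -/
def embM (D : Matrix {i // p i} {i // p i} F) : Matrix ι ι F :=
  (fromBlocks D 0 0 (1 : Matrix {i // ¬ p i} {i // ¬ p i} F)).submatrix (Equiv.sumCompl p).symm (Equiv.sumCompl p).symm

theorem embM_mul (D D' : Matrix {i // p i} {i // p i} F) : embM p (D * D') = embM p D * embM p D' := by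
  unfold embM
  rw [submatrix_mul_equiv, fromBlocks_multiply]
  simp

theorem embM_one : embM p (1 : Matrix {i // p i} {i // p i} F) = 1 := by
  unfold embM
  rw [fromBlocks_one, submatrix_one_equiv]

theorem det_embM (D : Matrix {i // p i} {i // p i} F) : (embM p D).det = D.det := by
  unfold embM
  rw [det_submatrix_equiv_self, det_fromBlocks_zero₂₁, det_one, mul_one]

theorem embM_apply (D : Matrix {i // p i} {i // p i} F) (i j : ι) :
    embM p D i j = if h : p i ∧ p j then D ⟨i, h.1⟩ ⟨j, h.2⟩ else (1 : Matrix ι ι F) i j := by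
  unfold embM
  rw [submatrix_apply]
  by_cases hi : p i <;> by_cases hj : p j
  · rw [Equiv.sumCompl_symm_apply_of_pos hi, Equiv.sumCompl_symm_apply_of_pos hj, fromBlocks_apply₁₁, dif_pos ⟨hi, hj⟩]
  · rw [Equiv.sumCompl_symm_apply_of_pos hi, Equiv.sumCompl_symm_apply_of_neg hj, fromBlocks_apply₁₂,
      dif_neg (fun h => hj h.2), one_apply_ne]
    · rfl
    · rintro rfl; exact hj hi
  · rw [Equiv.sumCompl_symm_apply_of_neg hi, Equiv.sumCompl_symm_apply_of_pos hj, fromBlocks_apply₂₁,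
      dif_neg (fun h => hi h.1), one_apply_ne]
    · rfl
    · rintro rfl; exact hi hj
  · rw [Equiv.sumCompl_symm_apply_of_neg hi, Equiv.sumCompl_symm_apply_of_neg hj, fromBlocks_apply₂₂,
      dif_neg (fun h => hi h.1)]
    by_cases hij : i = j
    · subst hij; rw [one_apply_eq, one_apply_eq]
    · rw [one_apply_ne hij, one_apply_ne]
      intro h; exact hij (congrArg Subtype.val h)

/-- The Levi complement. -/
def emb : SpecialLinearGroup {i // p i} F →* SpecialLinearGroup ι F where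
  toFun D := ⟨embM p D.1, by rw [det_embM, D.2]⟩
  map_one' := Subtype.ext (embM_one p)
  map_mul' D D' := Subtype.ext (embM_mul p D.1 D'.1)

theorem emb_val (D : SpecialLinearGroup {i // p i} F) : (emb p D).1 = embM p D.1 := rfl

theorem emb_transvection {i j : {i // p i}} (hij : i ≠ j) (c : F) :
    emb p (SpecialLinearGroup.transvection hij c) = tv i.1 j.1 c := by
  have hij' : i.1 ≠ j.1 := fun h => hij (Subtype.ext h)
  apply slext
  rw [tv_of_ne hij']
  ext k l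
  rw [emb_val, embM_apply]
  show (if h : p k ∧ p l then (1 + Matrix.single i j c) ⟨k, h.1⟩ ⟨l, h.2⟩ else (1 : Matrix ι ι F) k l) =
    (1 + Matrix.single i.1 j.1 c) k l
  simp only [Matrix.add_apply, Matrix.single_apply]
  split_ifs with h1 h2 h3 h3 h4 h4
  · rw [one_apply, one_apply]
    simp only [Subtype.mk.injEq]
  · exfalso; apply h3
    exact ⟨congrArg Subtype.val h2.1, congrArg Subtype.val h2.2⟩
  · exfalso; apply h2
    exact ⟨Subtype.ext h3.1, Subtype.ext h3.2⟩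
  · rw [one_apply, one_apply]
    simp only [Subtype.mk.injEq]
  · exfalso; apply h1
    rw [← h4.1, ← h4.2]
    exact ⟨i.2, j.2⟩
  · rw [add_zero]

/-- The Levi complement is generated by root elements. -/
theorem emb_mem {H : Subgroup (SpecialLinearGroup ι F)} (hH : ∀ i j, p i → p j → i ≠ j → ∀ c, tv i j c ∈ H)
    (D : SpecialLinearGroup {i // p i} F) : emb p D ∈ H := by
  have h1 : (⊤ : Subgroup (SpecialLinearGroup {i // p i} F)) ≤ H.comap (emb p) := by
    rw [← closure_transvections, Subgroup.closure_le]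
    rintro _ ⟨i, j, hij, c, rfl⟩
    rw [SetLike.mem_coe, Subgroup.mem_comap, emb_transvection]
    exact hH i.1 j.1 i.2 j.2 (fun h => hij (Subtype.ext h)) c
  exact h1 (Subgroup.mem_top D)

end Emb

end Cfsg.Agent.OddHalf.D7An.Mat

end

-- merged: Cfsg.Agent.OddHalf.D7An.Two
section

/-!
# `SL_m(2)`: the parabolic of a transvection (ODD D7, `K = L_m(2)`; helper991)

`a ≠ b` in `ι`; `AM a = {1 + e_a φ}`, `BM b = {1 + u e_b*}`, `z = 1 + e_a e_b*`.

* `trA`, `trB` : the stabiliser of `AM` (`BM`) is transitive on its transvections;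
* `le_of_mem` : a subgroup containing `z`, invariant under the Levi complement and containing an element
  `(1 + e_a φ)(1 + u e_b*)` outside `AM ∪ BM` contains `AM` and `BM`.
-/

set_option autoImplicit false
set_option linter.unusedSectionVars false

namespace Cfsg.Agent.OddHalf.D7An.Two

open Matrix Cfsg.Agent.OddHalf.D7An.Mat
open Cfsg.Agent.TitsThree.KSideA (tv tv_of_ne tv_add tv_zero tv_neg)

variable {ι F : Type*} [Field F] [DecidableEq ι] [Fintype ι]

theorem dot_single (φ : ι → F) (a : ι) : φ ⬝ᵥ Pi.single a 1 = φ a := by rw [dotProduct_single, mul_one]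

theorem single_dot (u : ι → F) (b : ι) : (Pi.single b 1 : ι → F) ⬝ᵥ u = u b := by rw [single_dotProduct, one_mul]

/-- `{1 + e_a φ}` -/
def AM (F : Type*) [Field F] (a : ι) : Subgroup (SpecialLinearGroup ι F) where
  carrier := {g | ∃ φ : ι → F, φ a = 0 ∧ g = Tr (Pi.single a 1) φ}
  one_mem' := ⟨0, rfl, (Tr_zero _).symm⟩
  mul_mem' := by
    rintro _ _ ⟨φ, h, rfl⟩ ⟨φ', h', rfl⟩
    refine ⟨φ + φ', by rw [Pi.add_apply, h, h', add_zero], Tr_mul ?_ ?_⟩ <;> rw [dot_single] <;> assumption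
  inv_mem' := by
    rintro _ ⟨φ, h, rfl⟩
    exact ⟨-φ, by rw [Pi.neg_apply, h, neg_zero], (Tr_neg (by rw [dot_single]; exact h)).symm⟩

/-- `{1 + u e_b*}` -/
def BM (F : Type*) [Field F] (b : ι) : Subgroup (SpecialLinearGroup ι F) where
  carrier := {g | ∃ u : ι → F, u b = 0 ∧ g = Tr u (Pi.single b 1)}
  one_mem' := ⟨0, rfl, (Tr_zero' _).symm⟩
  mul_mem' := by
    rintro _ _ ⟨u, h, rfl⟩ ⟨u', h', rfl⟩
    refine ⟨u + u', by rw [Pi.add_apply, h, h', add_zero], Tr_mul' ?_ ?_⟩ <;> rw [single_dot] <;> assumption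
  inv_mem' := by
    rintro _ ⟨u, h, rfl⟩
    exact ⟨-u, by rw [Pi.neg_apply, h, neg_zero], (Tr_neg' (by rw [single_dot]; exact h)).symm⟩

theorem mem_AM {a : ι} {g : SpecialLinearGroup ι F} : g ∈ AM F a ↔ ∃ φ : ι → F, φ a = 0 ∧ g = Tr (Pi.single a 1) φ :=
  Iff.rfl

theorem mem_BM {b : ι} {g : SpecialLinearGroup ι F} : g ∈ BM F b ↔ ∃ u : ι → F, u b = 0 ∧ g = Tr u (Pi.single b 1) :=
  Iff.rfl

/-- An element fixing `e_a` normalises `AM a`. -/
theorem conj_AM {a : ι} {g : SpecialLinearGroup ι F} (hg : g.1 *ᵥ Pi.single a 1 = Pi.single a 1) {φ : ι → F}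
    (h : φ a = 0) : g * Tr (Pi.single a 1) φ * g⁻¹ = Tr (Pi.single a 1) (φ ᵥ* (g⁻¹).1) ∧ (φ ᵥ* (g⁻¹).1) a = 0 := by
  have h0 : φ ⬝ᵥ (Pi.single a 1 : ι → F) = 0 := by rw [dot_single, h]
  refine ⟨by rw [conj_Tr g h0, hg], ?_⟩
  have := inv_dot g φ (Pi.single a 1)
  rw [hg, dot_single, dot_single, h] at this
  exact this

/-- An element fixing `e_b*` normalises `BM b`. -/
theorem conj_BM {b : ι} {g : SpecialLinearGroup ι F} (hg : (Pi.single b 1 : ι → F) ᵥ* (g⁻¹).1 = Pi.single b 1)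
    {u : ι → F} (h : u b = 0) : g * Tr u (Pi.single b 1) * g⁻¹ = Tr (g.1 *ᵥ u) (Pi.single b 1) ∧
      (g.1 *ᵥ u) b = 0 := by
  have h0 : (Pi.single b 1 : ι → F) ⬝ᵥ u = 0 := by rw [single_dot, h]
  refine ⟨by rw [conj_Tr g h0, hg], ?_⟩
  have := inv_dot g (Pi.single b 1) u
  rw [hg, single_dot, single_dot, h] at this
  exact this

variable (hF : ∀ x : F, x = 0 ∨ x = 1)

include hF

theorem eq_one {x : F} (h : x ≠ 0) : x = 1 := (hF x).resolve_left h

theorem one_add_one : (1 : F) + 1 = 0 := by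
  rcases hF (1 + 1) with h | h
  · exact h
  · exact absurd (add_eq_left.1 h) one_ne_zero

theorem trA {a b : ι} (hab : a ≠ b) {φ : ι → F} (h : φ a = 0) (h0 : φ ≠ 0) : ∃ g : SpecialLinearGroup ι F,
    g.1 *ᵥ Pi.single a 1 = Pi.single a 1 ∧ (Pi.single b 1 : ι → F) ᵥ* (g⁻¹).1 = φ := by
  by_cases hb : ∃ i, i ≠ b ∧ φ i ≠ 0
  · obtain ⟨i, hi, hφi⟩ := hb
    have hφi := eq_one hF hφi
    -- `w b = 1`, `φ w = 1`
    let w : ι → F := Pi.single b 1 + (1 - φ b) • Pi.single i 1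
    have hw1 : φ ⬝ᵥ w = 1 := by
      simp only [w]
      rw [dotProduct_add, dotProduct_smul, dot_single, dot_single, hφi, smul_eq_mul]; ring
    have hw2 : w b = 1 := by
      simp only [w]
      rw [Pi.add_apply, Pi.smul_apply, Pi.single_eq_same, Pi.single_eq_of_ne hi.symm, smul_zero, add_zero]
    have hχ : (φ - Pi.single b 1) ⬝ᵥ w = 0 := by rw [sub_dotProduct, hw1, single_dot, hw2, sub_self]
    have hχ' : (-(φ - Pi.single b 1)) ⬝ᵥ w = 0 := by rw [neg_dotProduct, hχ, neg_zero]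
    refine ⟨Tr w (-(φ - Pi.single b 1)), ?_, ?_⟩
    · rw [Tr_mulVec hχ', dot_single, Pi.neg_apply, Pi.sub_apply, h, Pi.single_eq_of_ne hab, sub_zero, neg_zero,
        zero_smul, add_zero]
    · rw [Tr_neg hχ, inv_inv, vecMul_Tr hχ, single_dot, hw2, one_smul]
      abel
  · push Not at hb
    have e : φ = Pi.single b 1 := by
      have hφb : φ b ≠ 0 := by
        intro h1
        apply h0
        funext i
        by_cases hi : i = b
        · rw [hi, h1]; rfl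
        · exact hb i hi
      funext i
      by_cases hi : i = b
      · rw [hi, Pi.single_eq_same]; exact eq_one hF hφb
      · rw [hb i hi, Pi.single_eq_of_ne hi]
    refine ⟨1, ?_, ?_⟩
    · show (1 : Matrix ι ι F) *ᵥ _ = _
      rw [one_mulVec]
    · rw [inv_one]
      show _ ᵥ* (1 : Matrix ι ι F) = _
      rw [vecMul_one, e]

theorem trB {a b : ι} (hab : a ≠ b) {u : ι → F} (h : u b = 0) (h0 : u ≠ 0) : ∃ g : SpecialLinearGroup ι F,
    (Pi.single b 1 : ι → F) ᵥ* (g⁻¹).1 = Pi.single b 1 ∧ g.1 *ᵥ Pi.single a 1 = u := by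
  by_cases hb : ∃ i, i ≠ a ∧ u i ≠ 0
  · obtain ⟨i, hi, hui⟩ := hb
    have hui := eq_one hF hui
    let χ : ι → F := Pi.single a 1 + (1 - u a) • Pi.single i 1
    have hw1 : χ ⬝ᵥ u = 1 := by
      simp only [χ]
      rw [add_dotProduct, smul_dotProduct, single_dot, single_dot, hui, smul_eq_mul]; ring
    have hw2 : χ a = 1 := by
      simp only [χ]
      rw [Pi.add_apply, Pi.smul_apply, Pi.single_eq_same, Pi.single_eq_of_ne hi.symm, smul_zero, add_zero]
    have hχ : χ ⬝ᵥ (u - Pi.single a 1) = 0 := by rw [dotProduct_sub, hw1, dot_single, hw2, sub_self]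
    refine ⟨Tr (u - Pi.single a 1) χ, ?_, ?_⟩
    · rw [← Tr_neg hχ, vecMul_Tr (by rw [neg_dotProduct, hχ, neg_zero]), single_dot, Pi.sub_apply, h,
        Pi.single_eq_of_ne hab.symm, sub_zero, zero_smul, add_zero]
    · rw [Tr_mulVec hχ, dot_single, hw2, one_smul]
      abel
  · push Not at hb
    have e : u = Pi.single a 1 := by
      have hφb : u a ≠ 0 := by
        intro h1
        apply h0
        funext i
        by_cases hi : i = a
        · rw [hi, h1]; rfl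
        · exact hb i hi
      funext i
      by_cases hi : i = a
      · rw [hi, Pi.single_eq_same]; exact eq_one hF hφb
      · rw [hb i hi, Pi.single_eq_of_ne hi]
    refine ⟨1, ?_, ?_⟩
    · rw [inv_one]
      show _ ᵥ* (1 : Matrix ι ι F) = _
      rw [vecMul_one]
    · show (1 : Matrix ι ι F) *ᵥ _ = _
      rw [one_mulVec, e]

/-- `w` is supported outside `{a, b}`. -/
def Off (a b : ι) (w : ι → F) : Prop := w a = 0 ∧ w b = 0

omit hF in
theorem Off.add {a b : ι} {w w' : ι → F} (h : Off a b w) (h' : Off a b w') : Off a b (w + w') :=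
  ⟨by rw [Pi.add_apply, h.1, h'.1, add_zero], by rw [Pi.add_apply, h.2, h'.2, add_zero]⟩

omit hF in
theorem off_single {a b i : ι} (ha : i ≠ a) (hb : i ≠ b) : Off a b (Pi.single i (1 : F)) :=
  ⟨Pi.single_eq_of_ne ha.symm _, Pi.single_eq_of_ne hb.symm _⟩

/-- Separation. -/
theorem sepk {a b : ι} {φ χ : ι → F} (h1 : ∃ i, i ≠ a ∧ i ≠ b ∧ φ i ≠ χ i) (h2 : ∃ i, i ≠ a ∧ i ≠ b ∧ φ i ≠ 0) :
    ∃ w : ι → F, Off a b w ∧ φ ⬝ᵥ w = 1 ∧ χ ⬝ᵥ w = 0 := by
  by_cases h3 : ∃ i, i ≠ a ∧ i ≠ b ∧ φ i ≠ 0 ∧ χ i = 0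
  · obtain ⟨i, ha, hb, hφ, hχ⟩ := h3
    exact ⟨Pi.single i 1, off_single ha hb, by rw [dot_single]; exact eq_one hF hφ, by rw [dot_single, hχ]⟩
  · push Not at h3
    obtain ⟨j, hja, hjb, hj⟩ := h1
    obtain ⟨i, hia, hib, hi⟩ := h2
    have hφj : φ j = 0 := by
      by_contra h4
      exact hj (by rw [eq_one hF h4, eq_one hF (h3 j hja hjb h4)])
    have hχj : χ j = 1 := eq_one hF (fun h4 => hj (by rw [hφj, h4]))
    refine ⟨Pi.single i 1 + Pi.single j 1, (off_single hia hib).add (off_single hja hjb), ?_, ?_⟩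
    · rw [dotProduct_add, dot_single, dot_single, eq_one hF hi, hφj, add_zero]
    · rw [dotProduct_add, dot_single, dot_single, eq_one hF (h3 i hia hib hi), hχj, one_add_one hF]

theorem sep1 {a b : ι} {φ χ : ι → F} (h1 : ∃ i, i ≠ a ∧ i ≠ b ∧ φ i ≠ 0) (h2 : ∃ i, i ≠ a ∧ i ≠ b ∧ χ i ≠ 0) :
    ∃ w : ι → F, Off a b w ∧ φ ⬝ᵥ w = 1 ∧ χ ⬝ᵥ w = 1 := by
  by_cases h3 : ∃ i, i ≠ a ∧ i ≠ b ∧ φ i ≠ χ i
  · obtain ⟨w, hw, e1, e2⟩ := sepk hF h3 h1
    obtain ⟨w', hw', e1', e2'⟩ := sepk hF (φ := χ) (χ := φ) (by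
      obtain ⟨i, ha, hb, hi⟩ := h3; exact ⟨i, ha, hb, hi.symm⟩) h2
    refine ⟨w + w', hw.add hw', ?_, ?_⟩
    · rw [dotProduct_add, e1, e2', add_zero]
    · rw [dotProduct_add, e2, e1', zero_add]
  · push Not at h3
    obtain ⟨i, ha, hb, hi⟩ := h1
    exact ⟨Pi.single i 1, off_single ha hb, by rw [dot_single]; exact eq_one hF hi, by
      rw [dot_single, ← h3 i ha hb]; exact eq_one hF hi⟩

theorem exists_pair {a b : ι} {φ u : ι → F} {i j l : ι} (hi : i ≠ a ∧ i ≠ b) (hj : j ≠ a ∧ j ≠ b) (hl : l ≠ a ∧ l ≠ b)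
    (hij : i ≠ j) (hil : i ≠ l) (hjl : j ≠ l) (hu : u i ≠ 0) (h2 : ∃ i, i ≠ a ∧ i ≠ b ∧ φ i ≠ 0) :
    ∃ χ w : ι → F, Off a b χ ∧ Off a b w ∧ (∃ i, i ≠ a ∧ i ≠ b ∧ χ i ≠ 0) ∧ χ ⬝ᵥ u = 0 ∧ χ ⬝ᵥ w = 0 ∧ φ ⬝ᵥ w = 1 := by
  have hui := eq_one hF hu
  have h11 := one_add_one hF
  have key : ∀ k, k ≠ a ∧ k ≠ b → i ≠ k → Off a b (Pi.single k 1 + u k • Pi.single i 1 : ι → F) ∧
      (Pi.single k 1 + u k • Pi.single i 1 : ι → F) k = 1 ∧ (Pi.single k 1 + u k • Pi.single i 1 : ι → F) ⬝ᵥ u = 0 := by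
    intro k hk hik
    refine ⟨(off_single hk.1 hk.2).add ⟨?_, ?_⟩, ?_, ?_⟩
    · rw [Pi.smul_apply, Pi.single_eq_of_ne hi.1.symm, smul_zero]
    · rw [Pi.smul_apply, Pi.single_eq_of_ne hi.2.symm, smul_zero]
    · rw [Pi.add_apply, Pi.smul_apply, Pi.single_eq_same, Pi.single_eq_of_ne hik.symm, smul_zero, add_zero]
    · rw [add_dotProduct, smul_dotProduct, single_dot, single_dot, hui, smul_eq_mul, mul_one]
      rcases hF (u k) with e | e <;> rw [e]
      · rw [add_zero]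
      · exact h11
  have fin : ∀ χ : ι → F, Off a b χ → (∃ i, i ≠ a ∧ i ≠ b ∧ χ i ≠ 0) → χ ⬝ᵥ u = 0 → (∃ i, i ≠ a ∧ i ≠ b ∧ φ i ≠ χ i) →
      ∃ χ w : ι → F, Off a b χ ∧ Off a b w ∧ (∃ i, i ≠ a ∧ i ≠ b ∧ χ i ≠ 0) ∧ χ ⬝ᵥ u = 0 ∧ χ ⬝ᵥ w = 0 ∧
        φ ⬝ᵥ w = 1 := by
    intro χ h3 h4 h5 h6
    obtain ⟨w, hw, e1, e2⟩ := sepk hF h6 h2
    exact ⟨χ, w, h3, hw, h4, h5, e2, e1⟩
  obtain ⟨j1, j2, j3⟩ := key j hj hij
  obtain ⟨l1, l2, l3⟩ := key l hl hil
  by_cases h3 : ∃ k, k ≠ a ∧ k ≠ b ∧ φ k ≠ (Pi.single j 1 + u j • Pi.single i 1 : ι → F) k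
  · exact fin _ j1 ⟨j, hj.1, hj.2, by rw [j2]; exact one_ne_zero⟩ j3 h3
  · push Not at h3
    refine fin _ l1 ⟨l, hl.1, hl.2, by rw [l2]; exact one_ne_zero⟩ l3 ⟨j, hj.1, hj.2, ?_⟩
    rw [h3 j hj.1 hj.2, j2, Pi.add_apply, Pi.smul_apply, Pi.single_eq_of_ne hjl, Pi.single_eq_of_ne hij.symm, smul_zero,
      add_zero]
    exact one_ne_zero

/-- The parabolic subgroup: invariant subgroups. -/
theorem AM_le {a b : ι} (hab : a ≠ b) {S : Subgroup (SpecialLinearGroup ι F)}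
    (hX : Tr (Pi.single a 1) (Pi.single b (1 : F)) ∈ S)
    (hS : ∀ w χ : ι → F, Off a b w → Off a b χ → χ ⬝ᵥ w = 0 → ∀ g ∈ S, Tr w χ * g * (Tr w χ)⁻¹ ∈ S)
    {χ : ι → F} (hχ : Off a b χ) (hχ0 : ∃ i, i ≠ a ∧ i ≠ b ∧ χ i ≠ 0) (hmem : Tr (Pi.single a 1) χ ∈ S) :
    AM F a ≤ S := by
  -- supported outside `b`
  have h1 : ∀ ψ : ι → F, Off a b ψ → Tr (Pi.single a 1) ψ ∈ S := by
    intro ψ hψ
    by_cases h0 : ∃ i, i ≠ a ∧ i ≠ b ∧ ψ i ≠ 0
    · obtain ⟨w, hw, e1, e2⟩ := sep1 hF hχ0 h0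
      have hd : (ψ - χ) ⬝ᵥ w = 0 := by rw [sub_dotProduct, e1, e2, sub_self]
      have hd' : (-(ψ - χ)) ⬝ᵥ w = 0 := by rw [neg_dotProduct, hd, neg_zero]
      have hoff : Off a b (-(ψ - χ)) := ⟨by
        rw [Pi.neg_apply, Pi.sub_apply, hψ.1, hχ.1, sub_zero, neg_zero], by
        rw [Pi.neg_apply, Pi.sub_apply, hψ.2, hχ.2, sub_zero, neg_zero]⟩
      have h2 := hS w (-(ψ - χ)) hw hoff hd' _ hmem
      have hfix : (Tr w (-(ψ - χ))).1 *ᵥ Pi.single a 1 = Pi.single a 1 := by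
        rw [Tr_mulVec hd', dot_single, hoff.1, zero_smul, add_zero]
      rw [(conj_AM hfix hχ.1).1, Tr_neg hd, inv_inv, vecMul_Tr hd, e1, one_smul] at h2
      have e : χ + (ψ - χ) = ψ := by abel
      rwa [e] at h2
    · push Not at h0
      have e : ψ = 0 := by
        funext i
        by_cases ha : i = a
        · rw [ha, hψ.1]; rfl
        by_cases hb : i = b
        · rw [hb, hψ.2]; rfl
        exact h0 i ha hb
      rw [e, Tr_zero]; exact one_mem _
  rintro _ ⟨φ, hφ, rfl⟩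
  have e : φ = (fun i => if i = b then 0 else φ i) + φ b • Pi.single b 1 := by
    funext i
    rw [Pi.add_apply, Pi.smul_apply]
    by_cases hi : i = b
    · subst hi; rw [if_pos rfl, Pi.single_eq_same, smul_eq_mul, mul_one, zero_add]
    · rw [if_neg hi, Pi.single_eq_of_ne hi, smul_zero, add_zero]
  have hoff : Off a b (fun i => if i = b then 0 else φ i) := ⟨by
    show (if a = b then 0 else φ a) = 0
    rw [if_neg hab, hφ], by
    show (if b = b then 0 else φ b) = 0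
    rw [if_pos rfl]⟩
  rw [e, ← Tr_mul (by rw [dot_single]; exact hoff.1) (by
    rw [dot_single, Pi.smul_apply, Pi.single_eq_of_ne hab, smul_zero])]
  refine mul_mem (h1 _ hoff) ?_
  rcases hF (φ b) with h2 | h2 <;> rw [h2]
  · rw [zero_smul, Tr_zero]; exact one_mem _
  · rw [one_smul]; exact hX

theorem BM_le {a b : ι} (hab : a ≠ b) {S : Subgroup (SpecialLinearGroup ι F)}
    (hX : Tr (Pi.single a 1) (Pi.single b (1 : F)) ∈ S)
    (hS : ∀ w χ : ι → F, Off a b w → Off a b χ → χ ⬝ᵥ w = 0 → ∀ g ∈ S, Tr w χ * g * (Tr w χ)⁻¹ ∈ S)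
    {x : ι → F} (hx : Off a b x) (hx0 : ∃ i, i ≠ a ∧ i ≠ b ∧ x i ≠ 0) (hmem : Tr x (Pi.single b 1) ∈ S) :
    BM F b ≤ S := by
  have h1 : ∀ y : ι → F, Off a b y → Tr y (Pi.single b 1) ∈ S := by
    intro y hy
    by_cases h0 : ∃ i, i ≠ a ∧ i ≠ b ∧ y i ≠ 0
    · obtain ⟨w, hw, e1, e2⟩ := sep1 hF hx0 h0
      rw [dotProduct_comm] at e1 e2
      have hd : w ⬝ᵥ (y - x) = 0 := by rw [dotProduct_sub, e1, e2, sub_self]
      have hoff : Off a b (y - x) := ⟨by
        rw [Pi.sub_apply, hy.1, hx.1, sub_zero], by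
        rw [Pi.sub_apply, hy.2, hx.2, sub_zero]⟩
      have h2 := hS (y - x) w hoff hw hd _ hmem
      have hfix : (Pi.single b 1 : ι → F) ᵥ* ((Tr (y - x) w)⁻¹).1 = Pi.single b 1 := by
        rw [← Tr_neg' hd, vecMul_Tr (by rw [dotProduct_neg, hd, neg_zero]), single_dot, Pi.neg_apply, hoff.2,
          neg_zero, zero_smul, add_zero]
      rw [(conj_BM hfix hx.2).1, Tr_mulVec hd, e1, one_smul] at h2
      have e : x + (y - x) = y := by abel
      rwa [e] at h2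
    · push Not at h0
      have e : y = 0 := by
        funext i
        by_cases ha : i = a
        · rw [ha, hy.1]; rfl
        by_cases hb : i = b
        · rw [hb, hy.2]; rfl
        exact h0 i ha hb
      rw [e, Tr_zero']; exact one_mem _
  rintro _ ⟨u, hu, rfl⟩
  have e : u = (fun i => if i = a then 0 else u i) + u a • Pi.single a 1 := by
    funext i
    rw [Pi.add_apply, Pi.smul_apply]
    by_cases hi : i = a
    · subst hi; rw [if_pos rfl, Pi.single_eq_same, smul_eq_mul, mul_one, zero_add]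
    · rw [if_neg hi, Pi.single_eq_of_ne hi, smul_zero, add_zero]
  have hoff : Off a b (fun i => if i = a then 0 else u i) := ⟨by
    show (if a = a then 0 else u a) = 0
    rw [if_pos rfl], by
    show (if b = a then 0 else u b) = 0
    rw [if_neg hab.symm, hu]⟩
  rw [e, ← Tr_mul' (by rw [single_dot]; exact hoff.2) (by
    rw [single_dot, Pi.smul_apply, Pi.single_eq_of_ne hab.symm, smul_zero])]
  refine mul_mem (h1 _ hoff) ?_
  rcases hF (u a) with h2 | h2 <;> rw [h2]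
  · rw [zero_smul, Tr_zero']; exact one_mem _
  · rw [one_smul]; exact hX

/-- **The invariant subgroups of `Q = AM BM` containing `z`.** -/
theorem le_of_mem {a b : ι} (hab : a ≠ b) {S : Subgroup (SpecialLinearGroup ι F)}
    (hX : Tr (Pi.single a 1) (Pi.single b (1 : F)) ∈ S)
    (hS : ∀ w χ : ι → F, Off a b w → Off a b χ → χ ⬝ᵥ w = 0 → ∀ g ∈ S, Tr w χ * g * (Tr w χ)⁻¹ ∈ S)
    (h3 : ∀ i, i ≠ a → i ≠ b → ∃ j l, j ≠ a ∧ j ≠ b ∧ l ≠ a ∧ l ≠ b ∧ i ≠ j ∧ i ≠ l ∧ j ≠ l)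
    {φ u : ι → F} (hφ : φ a = 0) (hu : u b = 0) (hφ0 : ∃ i, i ≠ a ∧ i ≠ b ∧ φ i ≠ 0)
    (hu0 : ∃ i, i ≠ a ∧ i ≠ b ∧ u i ≠ 0)
    (hmem : Tr (Pi.single a 1) φ * Tr u (Pi.single b 1) ∈ S) : AM F a ≤ S ∧ BM F b ≤ S := by
  constructor
  · obtain ⟨i, hia, hib, hi⟩ := hu0
    obtain ⟨j, l, hja, hjb, hla, hlb, hij, hil, hjl⟩ := h3 i hia hib
    obtain ⟨χ, w, hχ, hw, hχ0, e1, e2, e3⟩ := exists_pair hF (φ := φ) ⟨hia, hib⟩ ⟨hja, hjb⟩ ⟨hla, hlb⟩ hij hil hjl hi hφ0
    refine AM_le hF hab hX hS (χ := -χ) ⟨by rw [Pi.neg_apply, hχ.1, neg_zero], by rw [Pi.neg_apply, hχ.2, neg_zero]⟩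
      (by obtain ⟨i, h4, h5, h6⟩ := hχ0; exact ⟨i, h4, h5, by rw [Pi.neg_apply]; exact neg_ne_zero.2 h6⟩) ?_
    have h2 := hS w χ hw hχ e2 _ hmem
    have hfix : (Tr w χ).1 *ᵥ Pi.single a 1 = Pi.single a 1 := by
      rw [Tr_mulVec e2, dot_single, hχ.1, zero_smul, add_zero]
    have hfix' : (Pi.single b 1 : ι → F) ᵥ* ((Tr w χ)⁻¹).1 = Pi.single b 1 := by
      rw [← Tr_neg' e2, vecMul_Tr (by rw [dotProduct_neg, e2, neg_zero]), single_dot, Pi.neg_apply, hw.2,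
        neg_zero, zero_smul, add_zero]
    have e : Tr w χ * (Tr (Pi.single a 1) φ * Tr u (Pi.single b 1)) * (Tr w χ)⁻¹ =
        Tr (Pi.single a 1) (-χ) * (Tr (Pi.single a 1) φ * Tr u (Pi.single b 1)) := by
      calc Tr w χ * (Tr (Pi.single a 1) φ * Tr u (Pi.single b 1)) * (Tr w χ)⁻¹
          = (Tr w χ * Tr (Pi.single a 1) φ * (Tr w χ)⁻¹) * (Tr w χ * Tr u (Pi.single b 1) * (Tr w χ)⁻¹) := by group
        _ = Tr (Pi.single a 1) (-χ + φ) * Tr u (Pi.single b 1) := by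
          rw [(conj_AM hfix hφ).1, (conj_BM hfix' hu).1, Tr_mulVec e2, e1, zero_smul, add_zero, ← Tr_neg e2,
            vecMul_Tr (by rw [neg_dotProduct, e2, neg_zero]), e3, one_smul, add_comm φ]
        _ = _ := by
          rw [← Tr_mul (by rw [dot_single, Pi.neg_apply, hχ.1, neg_zero]) (by rw [dot_single, hφ]), mul_assoc]
    rw [e] at h2
    have h4 := mul_mem h2 (inv_mem hmem)
    rwa [mul_inv_cancel_right] at h4
  · obtain ⟨i, hia, hib, hi⟩ := hφ0
    obtain ⟨j, l, hja, hjb, hla, hlb, hij, hil, hjl⟩ := h3 i hia hib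
    obtain ⟨w, χ, hw, hχ, hw0, e1, e2, e3⟩ := exists_pair hF (φ := u) ⟨hia, hib⟩ ⟨hja, hjb⟩ ⟨hla, hlb⟩ hij hil hjl hi hu0
    rw [dotProduct_comm] at e1 e2 e3
    refine BM_le hF hab hX hS (x := w) hw hw0 ?_
    have h2 := hS w χ hw hχ e2 _ hmem
    have hfix : (Tr w χ).1 *ᵥ Pi.single a 1 = Pi.single a 1 := by
      rw [Tr_mulVec e2, dot_single, hχ.1, zero_smul, add_zero]
    have hfix' : (Pi.single b 1 : ι → F) ᵥ* ((Tr w χ)⁻¹).1 = Pi.single b 1 := by
      rw [← Tr_neg' e2, vecMul_Tr (by rw [dotProduct_neg, e2, neg_zero]), single_dot, Pi.neg_apply, hw.2,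
        neg_zero, zero_smul, add_zero]
    have e : Tr w χ * (Tr (Pi.single a 1) φ * Tr u (Pi.single b 1)) * (Tr w χ)⁻¹ =
        (Tr (Pi.single a 1) φ * Tr u (Pi.single b 1)) * Tr w (Pi.single b 1) := by
      calc Tr w χ * (Tr (Pi.single a 1) φ * Tr u (Pi.single b 1)) * (Tr w χ)⁻¹
          = (Tr w χ * Tr (Pi.single a 1) φ * (Tr w χ)⁻¹) * (Tr w χ * Tr u (Pi.single b 1) * (Tr w χ)⁻¹) := by group
        _ = Tr (Pi.single a 1) φ * Tr (u + w) (Pi.single b 1) := by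
          rw [(conj_AM hfix hφ).1, (conj_BM hfix' hu).1, Tr_mulVec e2, e3, one_smul, ← Tr_neg e2,
            vecMul_Tr (by rw [neg_dotProduct, e2, neg_zero]), e1, zero_smul, add_zero]
        _ = _ := by
          rw [← Tr_mul' (by rw [single_dot, hu]) (by rw [single_dot, hw.2]), mul_assoc]
    rw [e] at h2
    have h4 := mul_mem (inv_mem hmem) h2
    rwa [inv_mul_cancel_left] at h4

end Cfsg.Agent.OddHalf.D7An.Two

end

-- merged: Cfsg.Agent.OddHalf.D7Ex.TwoA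
section

/-!
# ODD D7, `q = 2`, type `A_n` (`n ≥ 4`): no swap (helper57; text: helper991 #8439 (III)(e)(f))

`X = {1, z}`, `P = QL`, `Q/X = R₁/X ⊕ R₂/X`. If `n` maps `t` to `tz` and interchanges `R₁` and `R₂`, then some element of
`C_G(t)` maps `R₁` to `R₂` (`exists_fuse`); so some `n` mapping `t` to `tz` fixes `R₁` and `R₂` (`exists_fix`), and acts
on `P/Q` like an element of `P` (`exists_inner`). Together with `Setup.exists_cent_of_inner`: `exists_cent`.
-/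

set_option autoImplicit false

namespace Cfsg.Agent.OddHalf.D7Ex.TwoA

open Subgroup

variable {G : Type*} [Group G]

/-- the conjugate subgroup `g R g⁻¹` -/
def cj (g : G) (R : Subgroup G) : Subgroup G := R.map (MulAut.conj g).toMonoidHom

theorem mem_cj {g a : G} {R : Subgroup G} : a ∈ cj g R ↔ g⁻¹ * a * g ∈ R := by
  constructor
  · rintro ⟨b, hb, rfl⟩
    have : g⁻¹ * (g * b * g⁻¹) * g = b := by group
    show g⁻¹ * (g * b * g⁻¹) * g ∈ R
    rw [this]; exact hb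
  · intro h
    refine ⟨_, h, ?_⟩
    show g * (g⁻¹ * a * g) * g⁻¹ = a
    group

theorem conj_mem_cj {g a : G} {R : Subgroup G} (ha : a ∈ R) : g * a * g⁻¹ ∈ cj g R := ⟨a, ha, rfl⟩

theorem cj_mul (g h : G) (R : Subgroup G) : cj (g * h) R = cj g (cj h R) := by
  ext a
  rw [mem_cj, mem_cj, mem_cj]
  have : (g * h)⁻¹ * a * (g * h) = h⁻¹ * (g⁻¹ * a * g) * h := by group
  rw [this]

theorem cj_one (R : Subgroup G) : cj 1 R = R := by
  ext a
  rw [mem_cj]
  simp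

theorem cj_inv {g : G} {R R' : Subgroup G} (h : cj g R = R') : cj g⁻¹ R' = R := by
  rw [← h, ← cj_mul, inv_mul_cancel, cj_one]

/-- **no swap**: if `n` (`t ↦ tz`) interchanges `R₁` and `R₂`, they are fused in `C_G(t)` -/
theorem exists_fuse {t z n : G} {R1 R2 : Subgroup G} (hnt : n * t * n⁻¹ = t * z)
    (h12 : cj n R1 = R2) (h21 : cj n R2 = R1) (hz1 : z ∈ R1)
    {z' : G} (hz' : z' ∈ R1) (hz'1 : z' ≠ 1) (hz'z : z' ≠ z)
    (tr1 : ∀ x ∈ R1, x ≠ 1 → ∃ k, k * t = t * k ∧ k * z * k⁻¹ = x ∧ cj k R1 = R1)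
    (tr2 : ∀ x ∈ R2, x ≠ 1 → ∃ k, k * t = t * k ∧ k * z * k⁻¹ = x ∧ cj k R2 = R2) :
    ∃ m, m * t = t * m ∧ cj m R1 = R2 := by
  obtain ⟨k1, hk1t, hk1z, hk1R⟩ := tr1 z' hz' hz'1
  have hz'' : n⁻¹ * (z⁻¹ * z') * n ∈ R2 := by
    rw [← mem_cj, h21]
    exact R1.mul_mem (R1.inv_mem hz1) hz'
  have hz''1 : n⁻¹ * (z⁻¹ * z') * n ≠ 1 := by
    intro h
    apply hz'z
    have h1 : z⁻¹ * z' = 1 := by
      calc z⁻¹ * z' = n * (n⁻¹ * (z⁻¹ * z') * n) * n⁻¹ := by group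
        _ = 1 := by rw [h]; group
    exact (inv_mul_eq_one.1 h1).symm
  obtain ⟨k2, hk2t, hk2z, hk2R⟩ := tr2 _ hz'' hz''1
  have hk1 : k1 * t * k1⁻¹ = t := by rw [hk1t]; group
  have hk2 : k2 * t * k2⁻¹ = t := by rw [hk2t]; group
  -- `h = k1 n`
  have hh : (k1 * n) * t * (k1 * n)⁻¹ = t * z' := by
    calc (k1 * n) * t * (k1 * n)⁻¹ = k1 * (n * t * n⁻¹) * k1⁻¹ := by group
      _ = (k1 * t * k1⁻¹) * (k1 * z * k1⁻¹) := by rw [hnt]; group
      _ = t * z' := by rw [hk1, hk1z]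
  have hhR : cj (k1 * n) R2 = R1 := by rw [cj_mul, h21, hk1R]
  -- `g = n k2 n`
  have hg : (n * k2 * n) * t * (n * k2 * n)⁻¹ = t * z' := by
    calc (n * k2 * n) * t * (n * k2 * n)⁻¹ = n * (k2 * (n * t * n⁻¹) * k2⁻¹) * n⁻¹ := by group
      _ = n * ((k2 * t * k2⁻¹) * (k2 * z * k2⁻¹)) * n⁻¹ := by rw [hnt]; group
      _ = (n * t * n⁻¹) * (z⁻¹ * z') := by rw [hk2, hk2z]; group
      _ = t * z' := by rw [hnt]; group
  have hgR : cj (n * k2 * n) R1 = R1 := by rw [cj_mul, cj_mul, h12, hk2R, h21]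
  refine ⟨(k1 * n)⁻¹ * (n * k2 * n), ?_, ?_⟩
  · rw [← mul_inv_eq_iff_eq_mul]
    calc (k1 * n)⁻¹ * (n * k2 * n) * t * ((k1 * n)⁻¹ * (n * k2 * n))⁻¹
        = (k1 * n)⁻¹ * ((n * k2 * n) * t * (n * k2 * n)⁻¹) * (k1 * n) := by group
      _ = (k1 * n)⁻¹ * ((k1 * n) * t * (k1 * n)⁻¹) * (k1 * n) := by rw [hg, hh]
      _ = t := by group
  · rw [cj_mul, hgR]
    exact cj_inv hhR

/-- The facts on `P = C_K(z)`, `K = L_m(2)`. -/
structure Two (t z : G) (X Q P R1 R2 : Subgroup G) : Prop where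
  hX : ∀ x ∈ X, x = 1 ∨ x = z
  zX : z ∈ X
  X1 : X ≤ R1
  X2 : X ≤ R2
  R1Q : R1 ≤ Q
  R2Q : R2 ≤ Q
  ne : R1 ≠ R2
  /-- `R₁/X` and `R₂/X` are the only proper `P`-submodules of `Q/X` -/
  only : ∀ R : Subgroup G, X ≤ R → R ≤ Q → (∀ p ∈ P, ∀ r ∈ R, p * r * p⁻¹ ∈ R) → R = X ∨ R = R1 ∨ R = R2 ∨ R = Q
  P1 : ∀ p ∈ P, ∀ r ∈ R1, p * r * p⁻¹ ∈ R1
  P2 : ∀ p ∈ P, ∀ r ∈ R2, p * r * p⁻¹ ∈ R2
  X1' : R1 ≠ X
  X2' : R2 ≠ X
  Q1' : R1 ≠ Q
  Q2' : R2 ≠ Q
  tr1 : ∀ x ∈ R1, x ≠ 1 → ∃ k, k * t = t * k ∧ k * z * k⁻¹ = x ∧ cj k R1 = R1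
  tr2 : ∀ x ∈ R2, x ≠ 1 → ∃ k, k * t = t * k ∧ k * z * k⁻¹ = x ∧ cj k R2 = R2
  /-- `P` induces all automorphisms of `R₁/X` -/
  gl : ∀ f : G → G, (∀ r ∈ R1, f r ∈ R1) → (∀ r ∈ R1, ∀ s ∈ R1, f (r * s) = f r * f s) →
    (∀ r ∈ R1, f r ∈ X ↔ r ∈ X) → ∃ p ∈ P, ∀ r ∈ R1, f r * (p * r * p⁻¹)⁻¹ ∈ X
  /-- `P/Q` is faithful on `R₁/X` -/
  faith : ∀ p ∈ P, (∀ r ∈ R1, p * r * p⁻¹ * r⁻¹ ∈ X) → p ∈ Q

namespace Two

variable {t z : G} {X Q P R1 R2 H : Subgroup G}

theorem cj_Q (S : Setup t X Q P H) {n : G} (hn : n ∈ S.N) : cj n Q = Q := by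
  ext a
  rw [mem_cj]
  constructor
  · intro h
    have h1 := S.N_Q hn h
    have h2 : n * (n⁻¹ * a * n) * n⁻¹ = a := by group
    rwa [h2] at h1
  · intro h
    have h1 := S.N_Q (inv_mem hn) h
    rwa [inv_inv] at h1

theorem cj_X (S : Setup t X Q P H) {n : G} (hn : n ∈ S.N) : cj n X = X := by
  ext a
  rw [mem_cj]
  constructor
  · intro h
    have h1 := hn.1 _ h
    have h2 : n * (n⁻¹ * a * n) * n⁻¹ = a := by group
    rwa [h2] at h1
  · intro h
    exact hn.2.1 _ h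

theorem cj_inj {g : G} {R R' : Subgroup G} (h : cj g R = cj g R') : R = R' := by
  rw [← cj_inv (g := g) (R := R) rfl, h, cj_inv rfl]

/-- an element of `N` permutes `R₁`, `R₂` -/
theorem image (F : Two t z X Q P R1 R2) (S : Setup t X Q P H) {n : G} (hn : n ∈ S.N) {R : Subgroup G}
    (hX : X ≤ R) (hQ : R ≤ Q) (hP : ∀ p ∈ P, ∀ r ∈ R, p * r * p⁻¹ ∈ R) (hX' : R ≠ X) (hQ' : R ≠ Q) :
    cj n R = R1 ∨ cj n R = R2 := by
  have h1 : X ≤ cj n R := by
    rw [← cj_X S hn]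
    exact map_mono hX
  have h2 : cj n R ≤ Q := by
    rw [← cj_Q S hn]
    exact map_mono hQ
  have h3 : ∀ p ∈ P, ∀ r ∈ cj n R, p * r * p⁻¹ ∈ cj n R := by
    intro p hp r hr
    rw [mem_cj] at hr ⊢
    have h4 := hP _ (S.N_P (inv_mem hn) hp) _ hr
    have h5 : n⁻¹ * p * n⁻¹⁻¹ * (n⁻¹ * r * n) * (n⁻¹ * p * n⁻¹⁻¹)⁻¹ = n⁻¹ * (p * r * p⁻¹) * n := by group
    rwa [h5] at h4
  rcases F.only _ h1 h2 h3 with h | h | h | h
  · exact absurd (cj_inj (h.trans (cj_X S hn).symm)) hX'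
  · exact Or.inl h
  · exact Or.inr h
  · exact absurd (cj_inj (h.trans (cj_Q S hn).symm)) hQ'

theorem dich (F : Two t z X Q P R1 R2) (S : Setup t X Q P H) {n : G} (hn : n ∈ S.N) :
    (cj n R1 = R1 ∧ cj n R2 = R2) ∨ (cj n R1 = R2 ∧ cj n R2 = R1) := by
  have h1 := F.image S hn F.X1 F.R1Q F.P1 F.X1' F.Q1'
  have h2 := F.image S hn F.X2 F.R2Q F.P2 F.X2' F.Q2'
  rcases h1 with h1 | h1
  · rcases h2 with h2 | h2
    · exact absurd (cj_inj (h1.trans h2.symm)) F.ne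
    · exact Or.inl ⟨h1, h2⟩
  · rcases h2 with h2 | h2
    · exact Or.inr ⟨h1, h2⟩
    · exact absurd (cj_inj (h1.trans h2.symm)) F.ne

/-- some element of `N` moves `t` and fixes `R₁`, `R₂` -/
theorem exists_fix (F : Two t z X Q P R1 R2) (S : Setup t X Q P H) {n : G} (hn : n ∈ S.N)
    (hnt : n * t * n⁻¹ ≠ t) : ∃ m ∈ S.N, m * t * m⁻¹ ≠ t ∧ cj m R1 = R1 ∧ cj m R2 = R2 := by
  rcases F.dich S hn with ⟨h1, h2⟩ | ⟨h12, h21⟩
  · exact ⟨n, hn, hnt, h1, h2⟩
  have hnt' : n * t * n⁻¹ = t * z := by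
    have h1 := hn.2.2
    rcases F.hX _ h1 with h2 | h2
    · exfalso
      apply hnt
      calc n * t * n⁻¹ = (t * t) * (n * t * n⁻¹) := by rw [S.tt, one_mul]
        _ = t * (t * (n * t * n⁻¹)) := by group
        _ = t := by rw [h2, mul_one]
    · calc n * t * n⁻¹ = (t * t) * (n * t * n⁻¹) := by rw [S.tt, one_mul]
        _ = t * (t * (n * t * n⁻¹)) := by group
        _ = t * z := by rw [h2]
  -- a third element of `R₁`
  obtain ⟨z', hz', hz'X⟩ : ∃ z' ∈ R1, z' ∉ X := by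
    by_contra hcon
    push Not at hcon
    exact F.X1' (le_antisymm hcon F.X1)
  obtain ⟨m, hmt, hmR⟩ := exists_fuse hnt' h12 h21 (F.X1 F.zX) hz' (fun h => hz'X (by rw [h]; exact X.one_mem))
    (fun h => hz'X (by rw [h]; exact F.zX)) F.tr1 F.tr2
  -- adjust `m` so that it centralises `z`
  have hz1 : z ≠ 1 := by
    rintro rfl
    exact hnt (by rw [hnt', mul_one])
  obtain ⟨k, hkt, hkz, hkR⟩ := F.tr2 (m * z * m⁻¹) (by rw [← hmR]; exact conj_mem_cj (F.X1 F.zX)) (by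
    intro h
    apply hz1
    calc z = m⁻¹ * (m * z * m⁻¹) * m := by group
      _ = 1 := by rw [h]; group)
  set y := k⁻¹ * m with hy
  have hyz : y * z * y⁻¹ = z := by
    rw [hy]
    calc k⁻¹ * m * z * (k⁻¹ * m)⁻¹ = k⁻¹ * (m * z * m⁻¹) * k := by group
      _ = z := by rw [← hkz]; group
  have hyt : y * t * y⁻¹ = t := by
    have h1 : k⁻¹ * t * k = t := by
      calc k⁻¹ * t * k = k⁻¹ * (t * k) := by group
        _ = t := by rw [← hkt]; group
    calc y * t * y⁻¹ = k⁻¹ * (m * t * m⁻¹) * k := by rw [hy]; group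
      _ = k⁻¹ * t * k := by rw [hmt]; group
      _ = t := h1
  have hyN : y ∈ S.N := by
    refine ⟨fun x hx => ?_, fun x hx => ?_, ?_⟩
    · rcases F.hX x hx with h | h
      · rw [h]; simp
      · rw [h, hyz]; exact F.zX
    · rcases F.hX x hx with h | h
      · rw [h]; simp
      · have h1 : y⁻¹ * z * y = z := by
          calc y⁻¹ * z * y = y⁻¹ * (y * z * y⁻¹) * y := by rw [hyz]
            _ = z := by group
        rw [h, h1]; exact F.zX
    · rw [hyt, S.tt]; exact X.one_mem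
  have hyR : cj y R1 = R2 := by
    rw [hy, cj_mul, hmR]
    exact cj_inv hkR
  have hyR' : cj y R2 = R1 := by
    rcases F.dich S hyN with ⟨h1, -⟩ | ⟨-, h2⟩
    · exact absurd (h1.symm.trans hyR) F.ne
    · exact h2
  refine ⟨n * y, mul_mem hn hyN, ?_, ?_, ?_⟩
  · have : n * y * t * (n * y)⁻¹ = n * (y * t * y⁻¹) * n⁻¹ := by group
    rw [this, hyt]; exact hnt
  · rw [cj_mul, hyR, h21]
  · rw [cj_mul, hyR', h12]

/-- an element of `N` fixing `R₁` acts on `P/Q` like an element of `P` -/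
theorem exists_inner (F : Two t z X Q P R1 R2) (S : Setup t X Q P H) {m : G} (hm : m ∈ S.N)
    (hmR : cj m R1 = R1) : ∃ p0 ∈ P, ∀ p ∈ P, m * p * m⁻¹ * (p0 * p * p0⁻¹)⁻¹ ∈ Q := by
  have hR : ∀ r ∈ R1, m * r * m⁻¹ ∈ R1 := fun r hr => by rw [← hmR]; exact conj_mem_cj hr
  obtain ⟨p0, hp0, h0⟩ := F.gl (fun r => m * r * m⁻¹) hR (fun r _ s _ => by group) (fun r _ => by
    constructor
    · intro h
      have h1 := hm.2.1 _ h
      have h2 : m⁻¹ * (m * r * m⁻¹) * m = r := by group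
      rwa [h2] at h1
    · exact hm.1 r)
  refine ⟨p0, hp0, ?_⟩
  set y := p0⁻¹ * m with hy
  have hXn : ∀ p ∈ P, ∀ x ∈ X, p * x * p⁻¹ = x := fun p hp x hx => by rw [← S.XP x hx p hp]; group
  have hyN : y ∈ S.N := by
    refine mul_mem (inv_mem ?_) hm
    refine ⟨fun x hx => by rw [hXn p0 hp0 x hx]; exact hx, fun x hx => ?_, ?_⟩
    · have := hXn p0⁻¹ (inv_mem hp0) x hx
      rw [inv_inv] at this
      rw [this]; exact hx
    · rw [← S.tP p0 hp0, mul_inv_cancel_right, S.tt]; exact X.one_mem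
  -- `y` is trivial on `R₁/X`
  have hyR : ∀ r ∈ R1, y * r * y⁻¹ * r⁻¹ ∈ X := by
    intro r hr
    have h1 := h0 r hr
    have h2 : y * r * y⁻¹ * r⁻¹ = p0⁻¹ * (m * r * m⁻¹ * (p0 * r * p0⁻¹)⁻¹) * p0⁻¹⁻¹ := by rw [hy]; group
    rw [h2, hXn p0⁻¹ (inv_mem hp0) _ h1]
    exact h1
  -- so `[y, p]` is trivial on `R₁/X`
  have hc : ∀ p ∈ P, y * p * y⁻¹ * p⁻¹ ∈ Q := by
    intro p hp
    refine F.faith _ (P.mul_mem (S.N_P hyN hp) (P.inv_mem hp)) fun r hr => ?_
    have e1 : ∀ r ∈ R1, ∃ x ∈ X, y * r * y⁻¹ = x * r := fun r hr =>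
      ⟨_, hyR r hr, by group⟩
    have e2 : ∀ r ∈ R1, ∃ x ∈ X, y⁻¹ * r * y = x * r := by
      intro r hr
      have hr' : y⁻¹ * r * y ∈ R1 := by
        have h3 : cj y R1 = R1 := by
          ext a
          constructor
          · rintro ⟨b, hb, rfl⟩
            obtain ⟨x, hx, h⟩ := e1 b hb
            show y * b * y⁻¹ ∈ R1
            rw [h]; exact R1.mul_mem (F.X1 hx) hb
          · intro ha
            rw [hy, cj_mul, hmR, mem_cj]
            have := F.P1 p0 hp0 a ha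
            rwa [inv_inv]
        rw [← mem_cj, h3]; exact hr
      obtain ⟨x, hx, h⟩ := e1 _ hr'
      refine ⟨x⁻¹, X.inv_mem hx, ?_⟩
      have h2 : y * (y⁻¹ * r * y) * y⁻¹ = r := by group
      rw [h2] at h
      rw [eq_inv_mul_iff_mul_eq]
      exact h.symm
    -- compute `c r c⁻¹`, `c = y p y⁻¹ p⁻¹`
    obtain ⟨x1, hx1, h1⟩ := e2 _ (F.P1 p⁻¹ (P.inv_mem hp) r hr)
    rw [inv_inv] at h1
    -- `y⁻¹ (p⁻¹ r p) y = x1 (p⁻¹ r p)`
    obtain ⟨x2, hx2, h2⟩ := e1 r hr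
    have h3 : p * (y⁻¹ * (p⁻¹ * r * p) * y) * p⁻¹ = x1 * r := by
      rw [h1]
      calc p * (x1 * (p⁻¹ * r * p)) * p⁻¹ = (p * x1 * p⁻¹) * r := by group
        _ = x1 * r := by rw [hXn p hp x1 hx1]
    have h4 : y * p * y⁻¹ * p⁻¹ * r * (y * p * y⁻¹ * p⁻¹)⁻¹ =
        y * (p * (y⁻¹ * (p⁻¹ * r * p) * y) * p⁻¹) * y⁻¹ := by group
    rw [h4, h3]
    have h5 : y * (x1 * r) * y⁻¹ * r⁻¹ = (y * x1 * y⁻¹) * (y * r * y⁻¹ * r⁻¹) := by group
    rw [h5]
    exact X.mul_mem (hyN.1 _ hx1) (hyR r hr)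
  intro p hp
  have h1 : m * p * m⁻¹ * (p0 * p * p0⁻¹)⁻¹ = p0 * (y * p * y⁻¹ * p⁻¹) * p0⁻¹ := by rw [hy]; group
  rw [h1]
  exact S.PQ p0 hp0 _ (hc p hp)

/-- **`C_G(P)` moves `t`** (`q = 2`, type `A`) -/
theorem exists_cent [Finite G] (F : Two t z X Q P R1 R2) (S : Setup t X Q P H) (hlin : Lin X Q P) {n : G}
    (hn : n ∈ S.N)
    (hnt : n * t * n⁻¹ ≠ t) {x : G} (hx : x ∈ X) :
    ∃ b : G, (∀ p ∈ P, b * p = p * b) ∧ b * t * b⁻¹ = t * x := by
  obtain ⟨m, hm, hmt, hmR, -⟩ := F.exists_fix S hn hnt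
  obtain ⟨p0, hp0, hin⟩ := F.exists_inner S hm hmR
  exact S.exists_cent_of_inner hlin F.hX hm hmt hp0 hin hx

end Two

end Cfsg.Agent.OddHalf.D7Ex.TwoA

end

-- merged: Cfsg.Agent.OddHalf.D7An.TwoInst
section

/-!
# The facts `TwoA.Two` for `K = SL_m(2)`, `m ≥ 5` (ODD D7; helper991)

`f : SL ι F →* G` injective, `|F| = 2`, `K = f(SL)` centralised by `t`; `a ≠ b`, `X = f{1, 1 + e_a e_b*}`,
`Q = f(AM BM)`, `P` between the group generated by the root elements fixing `e_a`, `e_b*` and their stabiliser.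
-/

set_option autoImplicit false
set_option linter.unusedSectionVars false

namespace Cfsg.Agent.OddHalf.D7An.TwoInst

open Matrix Cfsg.Agent.OddHalf.D7An.Mat Cfsg.Agent.OddHalf.D7An.Two
open Cfsg.Agent.TitsThree.KSideA (tv tv_of_ne tv_add tv_zero tv_neg)

variable {ι F G : Type*} [Field F] [DecidableEq ι] [Fintype ι] [Group G]

/-- The groups `X`, `Q`, `P`. -/
structure Loc (f : SpecialLinearGroup ι F →* G) (a b : ι) (X Q P : Subgroup G) : Prop where
  X : ∀ x, x ∈ X ↔ x = 1 ∨ x = f (Tr (Pi.single a 1) (Pi.single b 1))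
  Q : ∀ q, q ∈ Q ↔ ∃ φ u : ι → F, φ a = 0 ∧ u b = 0 ∧ q = f (Tr (Pi.single a 1) φ * Tr u (Pi.single b 1))
  P1 : ∀ i j, i ≠ j → j ≠ a → i ≠ b → ∀ c, f (tv i j c) ∈ P
  P2 : ∀ p ∈ P, ∃ g : SpecialLinearGroup ι F, p = f g ∧ g.1 *ᵥ Pi.single a 1 = Pi.single a 1 ∧
    (Pi.single b 1 : ι → F) ᵥ* g.1 = Pi.single b 1

variable {f : SpecialLinearGroup ι F →* G} {a b : ι} {X Q P : Subgroup G}

theorem inv_fix {g : SpecialLinearGroup ι F} (h : (Pi.single b 1 : ι → F) ᵥ* g.1 = Pi.single b 1) :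
    (Pi.single b 1 : ι → F) ᵥ* (g⁻¹).1 = Pi.single b 1 := by
  have : (Pi.single b 1 : ι → F) ᵥ* (g.1 * (g⁻¹).1) = Pi.single b 1 := by rw [coe_mul_inv, vecMul_one]
  rwa [← vecMul_vecMul, h] at this

theorem inv_fix' {g : SpecialLinearGroup ι F} (h : g.1 *ᵥ (Pi.single a 1 : ι → F) = Pi.single a 1) :
    (g⁻¹).1 *ᵥ (Pi.single a 1 : ι → F) = Pi.single a 1 := by
  have : ((g⁻¹).1 * g.1) *ᵥ (Pi.single a 1 : ι → F) = Pi.single a 1 := by rw [coe_inv_mul, one_mulVec]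
  rwa [← mulVec_mulVec, h] at this

variable (hF : ∀ x : F, x = 0 ∨ x = 1)

include hF

theorem tr_e_mem (L : Loc f a b X Q P) {φ : ι → F} (h : ∀ i, i ≠ b → φ i = 0) :
    f (Tr (Pi.single a 1) φ) ∈ X := by
  rw [L.X]
  by_cases hb : φ b = 0
  · left
    have : φ = 0 := by
      funext i
      by_cases hi : i = b
      · rw [hi, hb]; rfl
      · exact h i hi
    rw [this, Tr_zero, map_one]
  · right
    have : φ = Pi.single b 1 := by
      funext i
      by_cases hi : i = b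
      · rw [hi, Pi.single_eq_same]; exact eq_one hF hb
      · rw [h i hi, Pi.single_eq_of_ne hi]
    rw [this]

theorem tr_e_mem' (L : Loc f a b X Q P) {u : ι → F} (h : ∀ i, i ≠ a → u i = 0) :
    f (Tr u (Pi.single b 1)) ∈ X := by
  rw [L.X]
  by_cases hb : u a = 0
  · left
    have : u = 0 := by
      funext i
      by_cases hi : i = a
      · rw [hi, hb]; rfl
      · exact h i hi
    rw [this, Tr_zero', map_one]
  · right
    have : u = Pi.single a 1 := by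
      funext i
      by_cases hi : i = a
      · rw [hi, Pi.single_eq_same]; exact eq_one hF hb
      · rw [h i hi, Pi.single_eq_of_ne hi]
    rw [this]

omit hF in
theorem of_mem_X (L : Loc f a b X Q P) (hf : Function.Injective f) {φ : ι → F} (hφ : φ a = 0) (hab : a ≠ b)
    (h : f (Tr (Pi.single a 1) φ) ∈ X) {i : ι} (hi : i ≠ b) : φ i = 0 := by
  have h0 : φ ⬝ᵥ (Pi.single a 1 : ι → F) = 0 := by rw [dot_single, hφ]
  have h1 : (Pi.single b 1 : ι → F) ⬝ᵥ (Pi.single a 1 : ι → F) = 0 := by rw [dot_single, Pi.single_eq_of_ne hab]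
  have ha : (Pi.single a 1 : ι → F) a ≠ 0 := by rw [Pi.single_eq_same]; exact one_ne_zero
  rw [L.X] at h
  rcases h with h | h
  · rw [← map_one f, ← Tr_zero (Pi.single a 1)] at h
    rw [Tr_inj ha h0 (zero_dotProduct _) (hf h)]; rfl
  · rw [Tr_inj ha h0 h1 (hf h), Pi.single_eq_of_ne hi]

theorem emb_P (L : Loc f a b X Q P) (D : SpecialLinearGroup {i // i ≠ a ∧ i ≠ b} F) :
    f (emb (fun i => i ≠ a ∧ i ≠ b) D) ∈ P := by
  have := emb_mem (H := P.comap f) (fun i => i ≠ a ∧ i ≠ b) (fun i j hi hj hij c => L.P1 i j hij hj.1 hi.2 c) D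
  exact this

/-- **The facts `Two`.** -/
theorem two {t : G} (hf : Function.Injective f) (hab : a ≠ b) (L : Loc f a b X Q P)
    (ht : ∀ g, f g * t = t * f g)
    (h3 : ∀ i, i ≠ a → i ≠ b → ∃ j l, j ≠ a ∧ j ≠ b ∧ l ≠ a ∧ l ≠ b ∧ i ≠ j ∧ i ≠ l ∧ j ≠ l)
    (hex : ∃ i, i ≠ a ∧ i ≠ b) :
    D7Ex.TwoA.Two t (f (Tr (Pi.single a 1) (Pi.single b 1))) X Q P ((AM F a).map f) ((BM F b).map f) := by
  have h11 := one_add_one hF
  have hone : ∀ c : ι → F, c ⬝ᵥ (0 : ι → F) = 0 := fun c => dotProduct_zero c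
  have dab : (Pi.single b 1 : ι → F) a = 0 := Pi.single_eq_of_ne hab _
  have dba : (Pi.single a 1 : ι → F) b = 0 := Pi.single_eq_of_ne hab.symm _
  have hzX : f (Tr (Pi.single a 1) (Pi.single b 1)) ∈ X := (L.X _).2 (Or.inr rfl)
  have hX1 : X ≤ (AM F a).map f := by
    intro x hx
    rcases (L.X x).1 hx with rfl | rfl
    · exact one_mem _
    · exact ⟨_, ⟨_, dab, rfl⟩, rfl⟩
  have hX2 : X ≤ (BM F b).map f := by
    intro x hx
    rcases (L.X x).1 hx with rfl | rfl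
    · exact one_mem _
    · exact ⟨_, ⟨_, dba, rfl⟩, rfl⟩
  have hAQ : (AM F a).map f ≤ Q := by
    rintro _ ⟨_, ⟨φ, hφ, rfl⟩, rfl⟩
    rw [L.Q]
    exact ⟨φ, 0, hφ, rfl, by rw [Tr_zero', mul_one]⟩
  have hBQ : (BM F b).map f ≤ Q := by
    rintro _ ⟨_, ⟨u, hu, rfl⟩, rfl⟩
    rw [L.Q]
    exact ⟨0, u, rfl, hu, by rw [Tr_zero, one_mul]⟩
  obtain ⟨i0, hi0a, hi0b⟩ := hex
  -- an element of `AM` outside `X`, `BM`
  have hsi : (Pi.single i0 1 : ι → F) a = 0 := Pi.single_eq_of_ne hi0a.symm _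
  have hsi' : (Pi.single i0 1 : ι → F) b = 0 := Pi.single_eq_of_ne hi0b.symm _
  have d1 : (Pi.single i0 1 : ι → F) ⬝ᵥ (Pi.single a 1 : ι → F) = 0 := by rw [dot_single, hsi]
  have d2 : (Pi.single b 1 : ι → F) ⬝ᵥ (Pi.single i0 1 : ι → F) = 0 := by rw [single_dot, hsi']
  have hAmem : f (Tr (Pi.single a 1) (Pi.single i0 1)) ∈ (AM F a).map f := ⟨_, ⟨_, hsi, rfl⟩, rfl⟩
  have hBmem : f (Tr (Pi.single i0 1) (Pi.single b 1)) ∈ (BM F b).map f := ⟨_, ⟨_, hsi', rfl⟩, rfl⟩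
  have hAB : f (Tr (Pi.single a 1) (Pi.single i0 1)) ∉ (BM F b).map f := by
    rintro ⟨_, ⟨u, hu, rfl⟩, e⟩
    have e1 := congrArg (fun g : SpecialLinearGroup ι F => g.1 a i0) (hf e)
    simp only [Tr_apply d1, Tr_apply (show (Pi.single b 1 : ι → F) ⬝ᵥ u = 0 by rw [single_dot, hu])] at e1
    rw [Pi.single_eq_same, Pi.single_eq_same, Pi.single_eq_of_ne hi0b, mul_zero, mul_one, add_zero,
      one_apply_ne hi0a.symm, zero_add] at e1
    exact zero_ne_one e1
  have hBA : f (Tr (Pi.single i0 1) (Pi.single b 1)) ∉ (AM F a).map f := by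
    rintro ⟨_, ⟨φ, hφ, rfl⟩, e⟩
    have e1 := congrArg (fun g : SpecialLinearGroup ι F => g.1 i0 b) (hf e)
    simp only [Tr_apply d2, Tr_apply (show φ ⬝ᵥ (Pi.single a 1 : ι → F) = 0 by rw [dot_single, hφ])] at e1
    rw [Pi.single_eq_same, Pi.single_eq_same, Pi.single_eq_of_ne hi0a, zero_mul, mul_one, add_zero,
      one_apply_ne hi0b, zero_add] at e1
    exact zero_ne_one e1
  have hP1 : ∀ p ∈ P, ∀ r ∈ (AM F a).map f, p * r * p⁻¹ ∈ (AM F a).map f := by
    rintro p hp _ ⟨_, ⟨φ, hφ, rfl⟩, rfl⟩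
    obtain ⟨g, rfl, hg1, hg2⟩ := L.P2 p hp
    obtain ⟨e1, e2⟩ := conj_AM hg1 hφ
    exact ⟨_, ⟨_, e2, rfl⟩, by rw [← e1, map_mul, map_mul, map_inv]⟩
  have hP2 : ∀ p ∈ P, ∀ r ∈ (BM F b).map f, p * r * p⁻¹ ∈ (BM F b).map f := by
    rintro p hp _ ⟨_, ⟨u, hu, rfl⟩, rfl⟩
    obtain ⟨g, rfl, hg1, hg2⟩ := L.P2 p hp
    obtain ⟨e1, e2⟩ := conj_BM (inv_fix hg2) hu
    exact ⟨_, ⟨_, e2, rfl⟩, by rw [← e1, map_mul, map_mul, map_inv]⟩
  -- the Levi transvections lie in `P`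
  have hLevi : ∀ w χ : ι → F, Off a b w → Off a b χ → χ ⬝ᵥ w = 0 → f (Tr w χ) ∈ P := by
    intro w χ hw hχ h0
    let D : Matrix {i // i ≠ a ∧ i ≠ b} {i // i ≠ a ∧ i ≠ b} F :=
      1 + vecMulVec (fun i : {i // i ≠ a ∧ i ≠ b} => w i.1) (fun i : {i // i ≠ a ∧ i ≠ b} => χ i.1)
    have hDe : embM (fun i => i ≠ a ∧ i ≠ b) D = (Tr w χ).1 := by
      ext i j
      rw [embM_apply, Tr_apply h0]
      split_ifs with hc
      · show (1 + vecMulVec (fun i : {i // i ≠ a ∧ i ≠ b} => w i.1) (fun i : {i // i ≠ a ∧ i ≠ b} => χ i.1))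
          ⟨i, hc.1⟩ ⟨j, hc.2⟩ = _
        rw [Matrix.add_apply, vecMulVec_apply, one_apply, one_apply]
        simp only [Subtype.mk.injEq]
      · have : w i * χ j = 0 := by
          by_contra h5
          apply hc
          refine ⟨⟨?_, ?_⟩, ⟨?_, ?_⟩⟩
          · rintro rfl; apply h5; rw [hw.1, zero_mul]
          · rintro rfl; apply h5; rw [hw.2, zero_mul]
          · rintro rfl; apply h5; rw [hχ.1, mul_zero]
          · rintro rfl; apply h5; rw [hχ.2, mul_zero]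
        rw [this, add_zero]
    have hDdet : D.det = 1 := by
      rw [← det_embM (fun i => i ≠ a ∧ i ≠ b) D, hDe]
      exact (Tr w χ).2
    have := emb_P hF L ⟨D, hDdet⟩
    have e : emb (fun i => i ≠ a ∧ i ≠ b) ⟨D, hDdet⟩ = Tr w χ := slext hDe
    rwa [e] at this
  have hS : ∀ R : Subgroup G, (∀ p ∈ P, ∀ r ∈ R, p * r * p⁻¹ ∈ R) → ∀ w χ : ι → F, Off a b w → Off a b χ →
      χ ⬝ᵥ w = 0 → ∀ g ∈ R.comap f, Tr w χ * g * (Tr w χ)⁻¹ ∈ R.comap f := by
    intro R hR w χ hw hχ h0 g hg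
    rw [Subgroup.mem_comap, map_mul, map_mul, map_inv]
    exact hR _ (hLevi w χ hw hχ h0) _ hg
  refine
    { hX := fun x hx => (L.X x).1 hx
      zX := hzX
      X1 := hX1
      X2 := hX2
      R1Q := hAQ
      R2Q := hBQ
      ne := fun e => hAB (by rw [← e]; exact hAmem)
      only := ?_
      P1 := hP1
      P2 := hP2
      X1' := fun e => hAB (hX2 (by rw [← e]; exact hAmem))
      X2' := fun e => hBA (hX1 (by rw [← e]; exact hBmem))
      Q1' := fun e => hBA (by rw [e]; exact hBQ hBmem)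
      Q2' := fun e => hAB (by rw [e]; exact hAQ hAmem)
      tr1 := ?_
      tr2 := ?_
      gl := ?_
      faith := ?_ }
  · -- only
    intro R hXR hRQ hRP
    have hXR' : Tr (Pi.single a 1) (Pi.single b (1 : F)) ∈ R.comap f := hXR hzX
    by_cases hout : ∃ φ u : ι → F, φ a = 0 ∧ u b = 0 ∧ (∃ i, i ≠ a ∧ i ≠ b ∧ φ i ≠ 0) ∧ (∃ i, i ≠ a ∧ i ≠ b ∧ u i ≠ 0) ∧
        f (Tr (Pi.single a 1) φ * Tr u (Pi.single b 1)) ∈ R
    · obtain ⟨φ, u, hφ, hu, hφ0, hu0, hm⟩ := hout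
      obtain ⟨hA, hB⟩ := le_of_mem hF hab hXR' (hS R hRP) h3 hφ hu hφ0 hu0 hm
      right; right; right
      refine le_antisymm hRQ ?_
      intro q hq
      obtain ⟨φ', u', hφ', hu', rfl⟩ := (L.Q q).1 hq
      rw [map_mul]
      exact mul_mem (hA ⟨φ', hφ', rfl⟩) (hB ⟨u', hu', rfl⟩)
    · push Not at hout
      -- every element lies in `R₁ ∪ R₂`
      have hun : ∀ r ∈ R, r ∈ (AM F a).map f ∨ r ∈ (BM F b).map f := by
        intro r hr
        obtain ⟨φ, u, hφ, hu, rfl⟩ := (L.Q r).1 (hRQ hr)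
        by_cases h5 : ∃ i, i ≠ a ∧ i ≠ b ∧ φ i ≠ 0
        · by_cases h6 : ∃ i, i ≠ a ∧ i ≠ b ∧ u i ≠ 0
          · exact absurd hr (hout φ u hφ hu h5 h6)
          · left
            push Not at h6
            rw [map_mul]
            refine mul_mem ⟨_, ⟨φ, hφ, rfl⟩, rfl⟩ (hX1 (tr_e_mem' hF L fun i hi => ?_))
            by_cases hib : i = b
            · rw [hib, hu]
            · exact h6 i hi hib
        · right
          push Not at h5
          rw [map_mul]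
          refine mul_mem (hX2 (tr_e_mem hF L fun i hi => ?_)) ⟨_, ⟨u, hu, rfl⟩, rfl⟩
          by_cases hia : i = a
          · rw [hia, hφ]
          · exact h5 i hia hi
      have hor : R ≤ (AM F a).map f ∨ R ≤ (BM F b).map f := by
        by_contra hcon
        rw [not_or, SetLike.not_le_iff_exists, SetLike.not_le_iff_exists] at hcon
        obtain ⟨⟨x, hx, hxA⟩, ⟨y, hy, hyB⟩⟩ := hcon
        have hxB := (hun x hx).resolve_left hxA
        have hyA := (hun y hy).resolve_right hyB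
        rcases hun _ (mul_mem hx hy) with h5 | h5
        · apply hxA
          have := mul_mem h5 (inv_mem hyA)
          rwa [mul_inv_cancel_right] at this
        · apply hyB
          have := mul_mem (inv_mem hxB) h5
          rwa [inv_mul_cancel_left] at this
      rcases hor with hle | hle
      · by_cases hRX : R ≤ X
        · exact Or.inl (le_antisymm hRX hXR)
        · right; left
          refine le_antisymm hle ?_
          obtain ⟨r, hr, hrX⟩ := Set.not_subset.1 hRX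
          obtain ⟨_, ⟨φ, hφ, rfl⟩, rfl⟩ := hle hr
          have h6 : ∃ i, i ≠ a ∧ i ≠ b ∧ φ i ≠ 0 := by
            by_contra h7
            push Not at h7
            apply hrX
            refine tr_e_mem hF L fun i hi => ?_
            by_cases hia : i = a
            · rw [hia, hφ]
            · exact h7 i hia hi
          -- remove the `b` component
          let χ : ι → F := fun i => if i = b then 0 else φ i
          have hχ : Off a b χ := ⟨by
            show (if a = b then 0 else φ a) = 0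
            rw [if_neg hab, hφ], by
            show (if b = b then 0 else φ b) = 0
            rw [if_pos rfl]⟩
          have hχ0 : ∃ i, i ≠ a ∧ i ≠ b ∧ χ i ≠ 0 := by
            obtain ⟨i, h7, h8, h9⟩ := h6
            exact ⟨i, h7, h8, by
              show (if i = b then 0 else φ i) ≠ 0
              rwa [if_neg h8]⟩
          have hd : (φ - χ) ⬝ᵥ (Pi.single a 1 : ι → F) = 0 := by
            rw [dot_single, Pi.sub_apply, hφ, hχ.1, sub_zero]
          have hm : Tr (Pi.single a 1) χ ∈ R.comap f := by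
            have h7 : f (Tr (Pi.single a 1) (φ - χ)) ∈ X := by
              refine tr_e_mem hF L fun i hi => ?_
              show φ i - (if i = b then 0 else φ i) = 0
              rw [if_neg hi, sub_self]
            have h8 := mul_mem (inv_mem (hXR h7)) hr
            rw [← map_inv, ← map_mul, ← Tr_neg hd, Tr_mul (by rw [neg_dotProduct, hd, neg_zero]) (by
              rw [dot_single, hφ])] at h8
            have e : -(φ - χ) + φ = χ := by abel
            rwa [e] at h8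
          have := AM_le hF hab hXR' (hS R hRP) hχ hχ0 hm
          rintro _ ⟨g, hg, rfl⟩
          exact this hg
      · by_cases hRX : R ≤ X
        · exact Or.inl (le_antisymm hRX hXR)
        · right; right; left
          refine le_antisymm hle ?_
          obtain ⟨r, hr, hrX⟩ := Set.not_subset.1 hRX
          obtain ⟨_, ⟨u, hu, rfl⟩, rfl⟩ := hle hr
          have h6 : ∃ i, i ≠ a ∧ i ≠ b ∧ u i ≠ 0 := by
            by_contra h7
            push Not at h7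
            apply hrX
            refine tr_e_mem' hF L fun i hi => ?_
            by_cases hib : i = b
            · rw [hib, hu]
            · exact h7 i hi hib
          let x : ι → F := fun i => if i = a then 0 else u i
          have hx : Off a b x := ⟨by
            show (if a = a then 0 else u a) = 0
            rw [if_pos rfl], by
            show (if b = a then 0 else u b) = 0
            rw [if_neg hab.symm, hu]⟩
          have hx0 : ∃ i, i ≠ a ∧ i ≠ b ∧ x i ≠ 0 := by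
            obtain ⟨i, h7, h8, h9⟩ := h6
            exact ⟨i, h7, h8, by
              show (if i = a then 0 else u i) ≠ 0
              rwa [if_neg h7]⟩
          have hd : (Pi.single b 1 : ι → F) ⬝ᵥ (u - x) = 0 := by
            rw [single_dot, Pi.sub_apply, hu, hx.2, sub_zero]
          have hm : Tr x (Pi.single b 1) ∈ R.comap f := by
            have h7 : f (Tr (u - x) (Pi.single b 1)) ∈ X := by
              refine tr_e_mem' hF L fun i hi => ?_
              show u i - (if i = a then 0 else u i) = 0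
              rw [if_neg hi, sub_self]
            have h8 := mul_mem (inv_mem (hXR h7)) hr
            rw [← map_inv, ← map_mul, ← Tr_neg' hd, Tr_mul' (by rw [dotProduct_neg, hd, neg_zero]) (by
              rw [single_dot, hu])] at h8
            have e : -(u - x) + u = x := by abel
            rwa [e] at h8
          have := BM_le hF hab hXR' (hS R hRP) hx hx0 hm
          rintro _ ⟨g, hg, rfl⟩
          exact this hg
  · -- tr1
    rintro _ ⟨_, ⟨φ, hφ, rfl⟩, rfl⟩ hne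
    have hφ0 : φ ≠ 0 := by
      rintro rfl
      exact hne (by rw [Tr_zero, map_one])
    obtain ⟨g, hg1, hg2⟩ := trA hF hab hφ hφ0
    refine ⟨f g, ht g, ?_, ?_⟩
    · rw [← map_mul, ← map_inv, ← map_mul, (conj_AM hg1 dab).1, hg2]
    · apply le_antisymm
      · rintro _ ⟨_, ⟨_, ⟨ψ, hψ, rfl⟩, rfl⟩, rfl⟩
        obtain ⟨e1, e2⟩ := conj_AM hg1 hψ
        refine ⟨_, ⟨_, e2, rfl⟩, ?_⟩
        rw [← e1, map_mul, map_mul, map_inv]; rfl
      · rintro _ ⟨_, ⟨ψ, hψ, rfl⟩, rfl⟩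
        obtain ⟨e1, e2⟩ := conj_AM (inv_fix' hg1) hψ
        rw [D7Ex.TwoA.mem_cj]
        refine ⟨_, ⟨_, e2, rfl⟩, ?_⟩
        rw [← e1, inv_inv, map_mul, map_mul, map_inv]
  · -- tr2
    rintro _ ⟨_, ⟨u, hu, rfl⟩, rfl⟩ hne
    have hu0 : u ≠ 0 := by
      rintro rfl
      exact hne (by rw [Tr_zero', map_one])
    obtain ⟨g, hg1, hg2⟩ := trB hF hab hu hu0
    refine ⟨f g, ht g, ?_, ?_⟩
    · rw [← map_mul, ← map_inv, ← map_mul, (conj_BM hg1 dba).1, hg2]
    · apply le_antisymm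
      · rintro _ ⟨_, ⟨_, ⟨y, hy, rfl⟩, rfl⟩, rfl⟩
        obtain ⟨e1, e2⟩ := conj_BM hg1 hy
        refine ⟨_, ⟨_, e2, rfl⟩, ?_⟩
        rw [← e1, map_mul, map_mul, map_inv]; rfl
      · rintro _ ⟨_, ⟨y, hy, rfl⟩, rfl⟩
        have hg1' : (Pi.single b 1 : ι → F) ᵥ* (g⁻¹⁻¹).1 = Pi.single b 1 := inv_fix hg1
        obtain ⟨e1, e2⟩ := conj_BM hg1' hy
        rw [D7Ex.TwoA.mem_cj]
        refine ⟨_, ⟨_, e2, rfl⟩, ?_⟩
        rw [← e1, inv_inv, map_mul, map_mul, map_inv]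
  · -- gl
    intro h hR hmul hX
    have hrow : ∀ i : ι, i ≠ a → ∃ φ : ι → F, φ a = 0 ∧ h (f (Tr (Pi.single a 1) (Pi.single i 1))) =
        f (Tr (Pi.single a 1) φ) := by
      intro i hi
      obtain ⟨_, ⟨φ, hφ, rfl⟩, e⟩ := hR _ ⟨_, ⟨Pi.single i 1, Pi.single_eq_of_ne hi.symm _, rfl⟩, rfl⟩
      exact ⟨φ, hφ, e.symm⟩
    choose! ρ hρ hρe using hrow
    -- `h` in coordinates
    have h1 : h 1 = 1 := by
      have := hmul 1 (one_mem _) 1 (one_mem _)
      rw [one_mul] at this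
      exact left_eq_mul.1 this
    have hlin : ∀ (S : Finset ι) (c : ι → F), a ∉ S →
        h (f (Tr (Pi.single a 1) (∑ i ∈ S, c i • Pi.single i 1))) = f (Tr (Pi.single a 1) (∑ i ∈ S, c i • ρ i)) := by
      intro S c
      induction S using Finset.induction_on with
      | empty => intro _; rw [Finset.sum_empty, Finset.sum_empty, Tr_zero, map_one, h1]
      | insert i S hi ih =>
        intro ha
        have hia : i ≠ a := fun e => ha (e ▸ Finset.mem_insert_self i S)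
        have haS : a ∉ S := fun e => ha (Finset.mem_insert_of_mem e)
        have z1 : (c i • (Pi.single i 1 : ι → F)) ⬝ᵥ (Pi.single a 1 : ι → F) = 0 := by
          rw [dot_single, Pi.smul_apply, Pi.single_eq_of_ne hia.symm, smul_zero]
        have z2 : (∑ i ∈ S, c i • (Pi.single i 1 : ι → F)) ⬝ᵥ (Pi.single a 1 : ι → F) = 0 := by
          rw [dot_single, Finset.sum_apply]
          refine Finset.sum_eq_zero fun l hl => ?_
          rw [Pi.smul_apply, Pi.single_eq_of_ne, smul_zero]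
          rintro rfl; exact haS hl
        have z3 : (c i • ρ i) ⬝ᵥ (Pi.single a 1 : ι → F) = 0 := by
          rw [dot_single, Pi.smul_apply, hρ i hia, smul_zero]
        have z4 : (∑ i ∈ S, c i • ρ i) ⬝ᵥ (Pi.single a 1 : ι → F) = 0 := by
          rw [dot_single, Finset.sum_apply]
          refine Finset.sum_eq_zero fun l hl => ?_
          rw [Pi.smul_apply, hρ l (by rintro rfl; exact haS hl), smul_zero]
        have z1' : (c i • (Pi.single i 1 : ι → F)) a = 0 := (dot_single _ _).symm.trans z1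
        have z2' : (∑ i ∈ S, c i • (Pi.single i 1 : ι → F)) a = 0 := (dot_single _ _).symm.trans z2
        rw [Finset.sum_insert hi, Finset.sum_insert hi, ← Tr_mul z1 z2, ← Tr_mul z3 z4, map_mul, map_mul,
          hmul _ ⟨_, ⟨_, z1', rfl⟩, rfl⟩ _ ⟨_, ⟨_, z2', rfl⟩, rfl⟩, ih haS]
        congr 1
        rcases hF (c i) with e | e <;> rw [e]
        · rw [zero_smul, zero_smul, Tr_zero, map_one, h1]
        · rw [one_smul, one_smul]; exact hρe i hia
    have hφsum : ∀ φ : ι → F, φ a = 0 → φ = ∑ i ∈ Finset.univ.erase a, φ i • Pi.single i 1 := by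
      intro φ hφ
      funext k
      rw [Finset.sum_apply]
      by_cases hk : k = a
      · rw [hk, hφ]
        symm
        refine Finset.sum_eq_zero fun l hl => ?_
        rw [Pi.smul_apply, Pi.single_eq_of_ne, smul_zero]
        exact (Finset.ne_of_mem_erase hl).symm
      · rw [Finset.sum_eq_single k]
        · rw [Pi.smul_apply, Pi.single_eq_same, smul_eq_mul, mul_one]
        · intro l _ hl; rw [Pi.smul_apply, Pi.single_eq_of_ne hl.symm, smul_zero]
        · intro h; exact absurd (Finset.mem_erase.2 ⟨hk, Finset.mem_univ k⟩) h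
    have hval : ∀ φ : ι → F, φ a = 0 → h (f (Tr (Pi.single a 1) φ)) =
        f (Tr (Pi.single a 1) (∑ i ∈ Finset.univ.erase a, φ i • ρ i)) := by
      intro φ hφ
      conv_lhs => rw [hφsum φ hφ]
      exact hlin _ _ (Finset.notMem_erase a _)
    -- `ρ b` is supported at `b`
    have hρb : ∀ i, i ≠ b → ρ b i = 0 := by
      intro i hi
      refine of_mem_X L hf (hρ b hab.symm) hab ?_ hi
      rw [← hρe b hab.symm]
      exact (hX _ ⟨_, ⟨_, dab, rfl⟩, rfl⟩).2 hzX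
    -- the matrix
    let N : Matrix {i // i ≠ a ∧ i ≠ b} {i // i ≠ a ∧ i ≠ b} F := fun i j => ρ i.1 j.1
    have hN : N.det ≠ 0 := by
      intro hdet
      obtain ⟨v, hv0, hv⟩ := exists_vecMul_eq_zero_iff.2 hdet
      apply hv0
      let φ : ι → F := fun i => if hc : i ≠ a ∧ i ≠ b then v ⟨i, hc⟩ else 0
      have hφa : φ a = 0 := dif_neg (fun hc => hc.1 rfl)
      have hφb : φ b = 0 := dif_neg (fun hc => hc.2 rfl)
      have hin : f (Tr (Pi.single a 1) (∑ i ∈ Finset.univ.erase a, φ i • ρ i)) ∈ X := by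
        refine tr_e_mem hF L fun j hj => ?_
        rw [Finset.sum_apply]
        by_cases hja : j = a
        · refine Finset.sum_eq_zero fun i hi => ?_
          rw [Pi.smul_apply, hja, hρ i (Finset.ne_of_mem_erase hi), smul_zero]
        · have hvj := congrFun hv ⟨j, hja, hj⟩
          rw [vecMul, dotProduct] at hvj
          have e1 : ∑ i ∈ Finset.univ.erase a, (φ i • ρ i) j = ∑ i : ι, φ i * ρ i j := by
            rw [← Finset.add_sum_erase _ _ (Finset.mem_univ a), hφa, zero_mul, zero_add]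
            rfl
          rw [e1]
          have e2 : ∑ i : ι, φ i * ρ i j = ∑ i : {i // i ≠ a ∧ i ≠ b}, v i * ρ i.1 j := by
            have e3 : ∑ i : ι, φ i * ρ i j = ∑ i ∈ Finset.univ.filter (fun i => i ≠ a ∧ i ≠ b), φ i * ρ i j := by
              symm
              refine Finset.sum_subset (Finset.filter_subset _ _) fun i _ hi => ?_
              have : φ i = 0 := dif_neg (fun hc => hi (Finset.mem_filter.2 ⟨Finset.mem_univ i, hc⟩))
              rw [this, zero_mul]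
            rw [e3, Finset.sum_subtype (p := fun i => i ≠ a ∧ i ≠ b) _ (fun x => by simp) (fun i => φ i * ρ i j)]
            refine Finset.sum_congr rfl fun i _ => ?_
            have : φ i.1 = v i := dif_pos i.2
            rw [this]
          rw [e2]
          exact hvj
      have h5 := (hX _ ⟨_, ⟨φ, hφa, rfl⟩, rfl⟩).1 (by rw [hval φ hφa]; exact hin)
      funext i
      have h6 := of_mem_X L hf hφa hab h5 i.2.2
      have h7 : φ i.1 = v i := dif_pos i.2
      rw [← h7, h6]; rfl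
    have hN1 : N.det = 1 := eq_one hF hN
    let D : SpecialLinearGroup {i // i ≠ a ∧ i ≠ b} F := ⟨N, hN1⟩
    refine ⟨f (emb _ D⁻¹), emb_P hF L _, ?_⟩
    rintro _ ⟨_, ⟨φ, hφ, rfl⟩, rfl⟩
    have hfix : (emb (fun i => i ≠ a ∧ i ≠ b) D⁻¹).1 *ᵥ (Pi.single a 1 : ι → F) = Pi.single a 1 := by
      funext k
      rw [mulVec_single_one]
      show embM _ _ k a = _
      rw [embM_apply, dif_neg (fun hc => hc.2.1 rfl), Pi.single_apply, one_apply]
    obtain ⟨e1, e2⟩ := conj_AM hfix hφ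
    have e3 : (emb (fun i => i ≠ a ∧ i ≠ b) D⁻¹)⁻¹ = emb (fun i => i ≠ a ∧ i ≠ b) D := by rw [map_inv, inv_inv]
    rw [e3] at e1 e2
    have e4 : f (emb (fun i => i ≠ a ∧ i ≠ b) D⁻¹) * f (Tr (Pi.single a 1) φ) *
        (f (emb (fun i => i ≠ a ∧ i ≠ b) D⁻¹))⁻¹ =
        f (Tr (Pi.single a 1) (φ ᵥ* (emb (fun i => i ≠ a ∧ i ≠ b) D).1)) := by
      rw [← map_inv, e3, ← map_mul, ← map_mul, e1]
    have z1 : (φ ᵥ* (emb (fun i => i ≠ a ∧ i ≠ b) D).1) ⬝ᵥ (Pi.single a 1 : ι → F) = 0 := by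
      rw [dot_single]; exact e2
    have z4 : (∑ i ∈ Finset.univ.erase a, φ i • ρ i) ⬝ᵥ (Pi.single a 1 : ι → F) = 0 := by
      rw [dot_single, Finset.sum_apply]
      refine Finset.sum_eq_zero fun l hl => ?_
      rw [Pi.smul_apply, hρ l (Finset.ne_of_mem_erase hl), smul_zero]
    rw [hval φ hφ, e4, ← map_inv, ← map_mul, ← Tr_neg z1, Tr_mul z4 (by rw [neg_dotProduct, z1, neg_zero])]
    refine tr_e_mem hF L fun j hj => ?_
    rw [Pi.add_apply, Pi.neg_apply]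
    by_cases hja : j = a
    · rw [hja, e2, (dot_single _ a).symm.trans z4, neg_zero, add_zero]
    · have e5 : (∑ i ∈ Finset.univ.erase a, φ i • ρ i) j = (φ ᵥ* (emb (fun i => i ≠ a ∧ i ≠ b) D).1) j := by
        rw [Finset.sum_apply, vecMul, dotProduct, ← Finset.add_sum_erase _ _ (Finset.mem_univ a), hφ, zero_mul,
          zero_add]
        refine Finset.sum_congr rfl fun i hi => ?_
        rw [Pi.smul_apply, smul_eq_mul]
        congr 1
        show ρ i j = embM _ N i j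
        rw [embM_apply]
        by_cases hib : i = b
        · subst hib
          rw [dif_neg (fun hc => hc.1.2 rfl), hρb j hj, one_apply_ne hj.symm]
        · rw [dif_pos ⟨⟨Finset.ne_of_mem_erase hi, hib⟩, ⟨hja, hj⟩⟩]
      rw [e5, add_neg_cancel]
  · -- faith
    intro p hp hpr
    obtain ⟨g, rfl, hg1, hg2⟩ := L.P2 p hp
    have hN1 : ∀ i, i ≠ a → i ≠ b → ∀ j, j ≠ b → (g⁻¹).1 i j = (1 : Matrix ι ι F) i j := by
      intro i hia hib j hj
      have hsa : (Pi.single i 1 : ι → F) a = 0 := Pi.single_eq_of_ne hia.symm _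
      obtain ⟨e1, e2⟩ := conj_AM hg1 hsa
      have h5 := hpr _ ⟨_, ⟨_, hsa, rfl⟩, rfl⟩
      have z1 : (Pi.single i 1 : ι → F) ⬝ᵥ (Pi.single a 1 : ι → F) = 0 := by rw [dot_single, hsa]
      have z2 : ((Pi.single i 1 : ι → F) ᵥ* (g⁻¹).1) ⬝ᵥ (Pi.single a 1 : ι → F) = 0 := by rw [dot_single, e2]
      rw [← map_inv, ← map_inv, ← map_mul, ← map_mul, ← map_mul, e1, ← Tr_neg z1,
        Tr_mul z2 (by rw [neg_dotProduct, z1, neg_zero])] at h5
      have h6 := of_mem_X L hf (by rw [Pi.add_apply, Pi.neg_apply, e2, hsa, neg_zero, add_zero]) hab h5 hj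
      rw [Pi.add_apply, Pi.neg_apply, add_neg_eq_zero, single_one_vecMul] at h6
      rw [one_apply]
      have h7 : (g⁻¹).1 i j = (Pi.single i 1 : ι → F) j := h6
      rw [h7, Pi.single_apply]
      by_cases hij : i = j
      · rw [if_pos hij, if_pos hij.symm]
      · rw [if_neg hij, if_neg (fun h => hij h.symm)]
    have hN2 : ∀ j, (g⁻¹).1 b j = (1 : Matrix ι ι F) b j := by
      intro j
      have := congrFun (inv_fix hg2) j
      rw [single_one_vecMul] at this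
      have h7 : (g⁻¹).1 b j = (Pi.single b 1 : ι → F) j := this
      rw [h7, Pi.single_apply, one_apply]
      by_cases hij : b = j
      · rw [if_pos hij, if_pos hij.symm]
      · rw [if_neg hij, if_neg (fun h => hij h.symm)]
    have hN3 : (g⁻¹).1 a a = 1 := by
      have := congrFun (inv_fix' hg1) a
      rw [mulVec_single_one, Pi.single_eq_same] at this
      exact this
    let u : ι → F := fun i => if i = a ∨ i = b then 0 else (g⁻¹).1 i b
    let s : F := (fun j => (g⁻¹).1 a j - (1 : Matrix ι ι F) a j) ⬝ᵥ u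
    let φ : ι → F := (fun j => (g⁻¹).1 a j - (1 : Matrix ι ι F) a j) - s • Pi.single b 1
    have hua : u a = 0 := if_pos (Or.inl rfl)
    have hub : u b = 0 := if_pos (Or.inr rfl)
    have hφa : φ a = 0 := by
      show (g⁻¹).1 a a - (1 : Matrix ι ι F) a a - (s • (Pi.single b 1 : ι → F)) a = 0
      rw [hN3, one_apply_eq, Pi.smul_apply, dab, smul_zero, sub_self, sub_zero]
    have hφu : φ ⬝ᵥ u = s := by
      show ((fun j => (g⁻¹).1 a j - (1 : Matrix ι ι F) a j) - s • Pi.single b 1) ⬝ᵥ u = s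
      rw [sub_dotProduct, smul_dotProduct, single_dot, hub, smul_zero, sub_zero]
    have z1 : φ ⬝ᵥ (Pi.single a 1 : ι → F) = 0 := by rw [dot_single, hφa]
    have z2 : (Pi.single b 1 : ι → F) ⬝ᵥ u = 0 := by rw [single_dot, hub]
    have key : g⁻¹ = Tr (Pi.single a 1) φ * Tr u (Pi.single b 1) := by
      apply slext
      rw [mulv, Tr_val z1, Tr_val z2, add_mul, mul_add, mul_add, one_mul, one_mul, mul_one, vecMulVec_mul_vecMulVec,
        hφu]
      ext i j
      simp only [Matrix.add_apply, vecMulVec_apply, Pi.smul_apply, smul_eq_mul]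
      by_cases hia : i = a
      · subst hia
        rw [hua, zero_mul, add_zero, Pi.single_eq_same, one_mul, one_mul]
        show _ = (1 : Matrix ι ι F) i j + (((g⁻¹).1 i j - (1 : Matrix ι ι F) i j - (s • (Pi.single b 1 : ι → F)) j) +
          s * (Pi.single b 1 : ι → F) j)
        rw [Pi.smul_apply, smul_eq_mul]
        ring
      · rw [Pi.single_eq_of_ne hia, zero_mul, zero_mul, add_zero, add_zero]
        by_cases hib : i = b
        · subst hib
          rw [hub, zero_mul, add_zero, hN2]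
        · have hui : u i = (g⁻¹).1 i b := if_neg (by push Not; exact ⟨hia, hib⟩)
          by_cases hj : j = b
          · subst hj
            rw [hui, Pi.single_eq_same, mul_one, one_apply_ne hib, zero_add]
          · rw [hN1 i hia hib j hj, Pi.single_eq_of_ne hj, mul_zero, add_zero]
    have h8 : f g⁻¹ ∈ Q := (L.Q _).2 ⟨φ, u, hφa, hub, by rw [key]⟩
    have h9 := inv_mem h8
    rwa [map_inv, inv_inv] at h9

end Cfsg.Agent.OddHalf.D7An.TwoInst

end

-- merged: Cfsg.Agent.OddHalf.D7An.LocOf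
section

/-!
# `L_n(2)`, `n ≥ 5`: the doubled root group at one root (ODD D7; helper991)

`e : PSL_{n+1}(F) →* G` injective, `|F| = 2`, `n ≥ 4`, root groups `XG e x`, root `rtA a b`.
-/

set_option autoImplicit false
set_option linter.unusedSectionVars false

namespace Cfsg.Agent.OddHalf.D7An.LocOf

open Matrix Subgroup CoxeterSystem Cfsg.Agent.ChevalleyStructure.CoxeterGeom Cfsg.Agent.Tits.Roots
  Cfsg.Agent.Tits.Core Cfsg.Agent.Nodes.Reps Cfsg.Agent.Nodes.BNOf Cfsg.Agent.Nodes.Coroot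
  Cfsg.Agent.Nodes.RootsA Cfsg.Agent.Nodes.RGDTypeA Cfsg.Agent.Nodes.CommA
  Cfsg.Agent.OddHalf.SL.Index Cfsg.Agent.OddHalf.SL.Defs
  Cfsg.Agent.OddHalf.D7Ex Cfsg.Agent.OddHalf.D7An.Mat Cfsg.Agent.OddHalf.D7An.Two
  Cfsg.Agent.OddHalf.D7An.TwoInst
open Cfsg.Agent.LieRecognition.BNCox (cA)
open Cfsg.Agent.TitsThree.KSideA (tv tv_of_ne tv_add tv_zero tv_neg)

section AB

variable {ι F : Type*} [Field F] [DecidableEq ι] [Fintype ι]

/-- `B e_a = e_a` for `B = 1 + u e_b*`. -/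
theorem BM_fix {a b : ι} (hab : a ≠ b) {u : ι → F} (hu : u b = 0) :
    (Tr u (Pi.single b 1)).1 *ᵥ (Pi.single a 1 : ι → F) = Pi.single a 1 := by
  rw [Tr_mulVec (by rw [single_dot, hu]), single_dot, Pi.single_eq_of_ne hab.symm, zero_smul, add_zero]

/-- `{(1 + e_a φ)(1 + u e_b*)}` -/
def AB (F : Type*) [Field F] {a b : ι} (hab : a ≠ b) : Subgroup (SpecialLinearGroup ι F) where
  carrier := {g | ∃ φ u : ι → F, φ a = 0 ∧ u b = 0 ∧ g = Tr (Pi.single a 1) φ * Tr u (Pi.single b 1)}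
  one_mem' := ⟨0, 0, rfl, rfl, by rw [Tr_zero, Tr_zero', one_mul]⟩
  mul_mem' := by
    rintro _ _ ⟨φ, u, h1, h2, rfl⟩ ⟨φ', u', h1', h2', rfl⟩
    obtain ⟨e1, e2⟩ := conj_AM (BM_fix hab h2) h1'
    refine ⟨φ + φ' ᵥ* ((Tr u (Pi.single b 1))⁻¹).1, u + u', by rw [Pi.add_apply, h1, e2, add_zero],
      by rw [Pi.add_apply, h2, h2', add_zero], ?_⟩
    rw [← Tr_mul (by rw [dot_single, h1]) (by rw [dot_single, e2]), ← e1,
      ← Tr_mul' (by rw [single_dot, h2]) (by rw [single_dot, h2'])]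
    group
  inv_mem' := by
    rintro _ ⟨φ, u, h1, h2, rfl⟩
    have h1' : (-φ) a = 0 := by rw [Pi.neg_apply, h1, neg_zero]
    have h2' : (-u) b = 0 := by rw [Pi.neg_apply, h2, neg_zero]
    obtain ⟨e1, e2⟩ := conj_AM (BM_fix hab h2') h1'
    refine ⟨_, -u, e2, h2', ?_⟩
    rw [← e1, Tr_neg (by rw [dot_single, h1]), Tr_neg' (by rw [single_dot, h2])]
    group

theorem mem_AB {a b : ι} (hab : a ≠ b) {g : SpecialLinearGroup ι F} : g ∈ AB F hab ↔
    ∃ φ u : ι → F, φ a = 0 ∧ u b = 0 ∧ g = Tr (Pi.single a 1) φ * Tr u (Pi.single b 1) := Iff.rfl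

theorem tv_mem_AB {a b : ι} (hab : a ≠ b) {j : ι} (hj : a ≠ j) (c : F) : tv a j c ∈ AB F hab :=
  ⟨Pi.single j c, 0, Pi.single_eq_of_ne hj _, rfl, by rw [Tr_zero', mul_one, tv_eq hj]⟩

theorem tv_eq' {i b : ι} (hib : i ≠ b) (c : F) : tv i b c = Tr (Pi.single i c) (Pi.single b 1) := by
  rw [tv_eq hib]
  apply slext
  rw [Tr_val, Tr_val]
  · ext k l
    simp only [Matrix.add_apply, vecMulVec_apply, Pi.single_apply]
    by_cases h1 : k = i <;> by_cases h2 : l = b <;> simp [h1, h2]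
  · rw [single_dotProduct, Pi.single_eq_of_ne hib.symm, mul_zero]
  · rw [single_dotProduct, Pi.single_eq_of_ne hib.symm, mul_zero]

theorem tv_mem_AB' {a b : ι} (hab : a ≠ b) {i : ι} (hi : i ≠ b) (c : F) : tv i b c ∈ AB F hab :=
  ⟨0, Pi.single i c, rfl, Pi.single_eq_of_ne hi.symm _, by rw [Tr_zero, one_mul, tv_eq' hi]⟩

end AB

variable {n : ℕ} {F : Type*} [Field F] {G : Type*} [Group G]

/-- The root groups in `G`. -/
def XG (e : ProjectiveSpecialLinearGroup (Fin (n + 1)) F →* G) (x : Fin n → ℤ) : Subgroup G :=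
  ((Cfsg.Agent.Nodes.RGDTypeA.X F x).map (pr n F)).map e

theorem mem_XG {e : ProjectiveSpecialLinearGroup (Fin (n + 1)) F →* G} {a b : Fin (n + 1)} (hab : a ≠ b) {g : G} :
    g ∈ XG e (rtA a b) ↔ ∃ c : F, g = e.comp (pr n F) (tv a b c) := by
  unfold XG
  rw [X_rtA hab]
  constructor
  · rintro ⟨_, ⟨_, ⟨c, rfl⟩, rfl⟩, rfl⟩
    exact ⟨c, rfl⟩
  · rintro ⟨c, rfl⟩
    exact ⟨_, ⟨_, ⟨c, rfl⟩, rfl⟩, rfl⟩

variable {W : Type*} [Group W] [Finite W] (cs : CoxeterSystem (cA n) W) {A : Fin n → Fin n → ℤ}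
  (h : IsCartan (cA n) A)

include cs in
theorem bf_rtA (h : IsCartan (cA n) A) (a b : Fin (n + 1)) {c d : Fin (n + 1)} (hcd : c ≠ d) :
    Bf A (rtA a b) (rtA c d) = (if a = c then 1 else 0) - (if a = d then 1 else 0) -
      ((if b = c then 1 else 0) - (if b = d then 1 else 0)) := by
  rw [bf_eq_cpr (cs := cs) (h := h) (fun i j => (KFacts.SLRow.Psl.cA_ne i j).1)
    (fun i j => (KFacts.SLRow.Psl.cA_ne i j).2) _ (isRoot_rtA cs h hcd), cpr_rtA cs h a b hcd]

include cs h in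
/-- `(rtA i j, rtA a b) ≥ 0` -/
theorem bf_nonneg {i j a b : Fin (n + 1)} (hij : i ≠ j) (hab : a ≠ b) :
    0 ≤ Bf A (rtA i j) (rtA a b) ↔ j ≠ a ∧ i ≠ b := by
  rw [bf_rtA cs h i j hab]
  simp only [Fin.ext_iff, ne_eq] at *
  split_ifs <;> omega

include cs h in
/-- `(rtA i j, rtA a b) = 1` -/
theorem bf_one {i j a b : Fin (n + 1)} (hij : i ≠ j) (hab : a ≠ b) :
    Bf A (rtA i j) (rtA a b) = 1 ↔ (i = a ∧ j ≠ b) ∨ (i ≠ a ∧ j = b) := by
  rw [bf_rtA cs h i j hab]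
  simp only [Fin.ext_iff, ne_eq] at *
  split_ifs <;> omega

variable (hF : ∀ x : F, x = 0 ∨ x = 1)

include hF in
theorem pr_injective : Function.Injective (pr n F) := by
  rw [injective_iff_map_eq_one]
  intro g hg
  rw [← MonoidHom.mem_ker, ker_pr, Matrix.SpecialLinearGroup.mem_center_iff] at hg
  obtain ⟨c, hc, e⟩ := hg
  have hc0 : c ≠ 0 := by
    rintro rfl
    rw [zero_pow (by simp)] at hc
    exact zero_ne_one hc
  have hc1 := (hF c).resolve_left hc0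
  apply slext
  have e' : Matrix.scalar (Fin (n + 1)) c = g.1 := e
  rw [← e', hc1, map_one]
  rfl

section

variable {e : ProjectiveSpecialLinearGroup (Fin (n + 1)) F →* G} {a b : Fin (n + 1)} (hab : a ≠ b)

include hab

include h in
theorem Q_le : QS (XG e) (Ph1 (Bf A) {x | IsRoot cs h x} (rtA a b)) (rtA a b) ≤ (AB F hab).map (e.comp (pr n F)) := by
  refine QS_le ?_ ?_
  · intro x hx
    obtain ⟨c, rfl⟩ := (mem_XG hab).1 hx
    exact ⟨_, tv_mem_AB hab hab c, rfl⟩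
  · rintro x ⟨hx, hx1⟩ y hy
    obtain ⟨i, j, hij, rfl⟩ := exists_of_isRoot cs h hx
    obtain ⟨c, rfl⟩ := (mem_XG hij).1 hy
    rcases (bf_one cs h hij hab).1 hx1 with ⟨rfl, -⟩ | ⟨-, rfl⟩
    · exact ⟨_, tv_mem_AB hab hij c, rfl⟩
    · exact ⟨_, tv_mem_AB' hab hij c, rfl⟩

include h in
theorem mem_Q {φ : Fin (n + 1) → F} (h1 : φ a = 0) :
    e.comp (pr n F) (Tr (Pi.single a 1) φ) ∈ QS (XG e) (Ph1 (Bf A) {x | IsRoot cs h x} (rtA a b)) (rtA a b) := by
  have : Tr (Pi.single a 1) φ ∈ (QS (XG e) (Ph1 (Bf A) {x | IsRoot cs h x} (rtA a b)) (rtA a b)).comap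
      (e.comp (pr n F)) := by
    refine Tr_single_mem (S := Finset.univ.erase a) (Finset.notMem_erase a _) ?_ ?_
    · intro j hj c
      have hja := (Finset.ne_of_mem_erase hj).symm
      rw [mem_comap]
      by_cases hjb : j = b
      · rw [hjb]
        exact X_le_QS _ _ _ ((mem_XG hab).2 ⟨c, rfl⟩)
      · exact le_QS (XG e) (S := Ph1 (Bf A) {x | IsRoot cs h x} (rtA a b)) _ (b := rtA a j) ⟨isRoot_rtA cs h hja,
          (bf_one cs h hja hab).2 (Or.inl ⟨rfl, hjb⟩)⟩ ((mem_XG hja).2 ⟨c, rfl⟩)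
    · intro j hj
      have : j = a := by
        by_contra hne
        exact hj (Finset.mem_erase.2 ⟨hne, Finset.mem_univ j⟩)
      rw [this, h1]
  exact this

include h in
theorem mem_Q' {u : Fin (n + 1) → F} (h2 : u b = 0) :
    e.comp (pr n F) (Tr u (Pi.single b 1)) ∈ QS (XG e) (Ph1 (Bf A) {x | IsRoot cs h x} (rtA a b)) (rtA a b) := by
  have : Tr u (Pi.single b 1) ∈ (QS (XG e) (Ph1 (Bf A) {x | IsRoot cs h x} (rtA a b)) (rtA a b)).comap
      (e.comp (pr n F)) := by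
    refine Tr_single_mem' (S := Finset.univ.erase b) (Finset.notMem_erase b _) ?_ ?_
    · intro i hi c
      have hib := Finset.ne_of_mem_erase hi
      rw [mem_comap]
      by_cases hia : i = a
      · rw [hia]
        exact X_le_QS _ _ _ ((mem_XG hab).2 ⟨c, rfl⟩)
      · exact le_QS (XG e) (S := Ph1 (Bf A) {x | IsRoot cs h x} (rtA a b)) _ (b := rtA i b) ⟨isRoot_rtA cs h hib,
          (bf_one cs h hib hab).2 (Or.inr ⟨hia, rfl⟩)⟩ ((mem_XG hib).2 ⟨c, rfl⟩)
    · intro j hj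
      have : j = b := by
        by_contra hne
        exact hj (Finset.mem_erase.2 ⟨hne, Finset.mem_univ j⟩)
      rw [this, h2]
  exact this

end

/-- The stabiliser of `e_a` and `e_b*`. -/
def St (F : Type*) [Field F] (a b : Fin (n + 1)) : Subgroup (SpecialLinearGroup (Fin (n + 1)) F) where
  carrier := {g | g.1 *ᵥ (Pi.single a 1 : Fin (n + 1) → F) = Pi.single a 1 ∧
    (Pi.single b 1 : Fin (n + 1) → F) ᵥ* g.1 = Pi.single b 1}
  one_mem' := ⟨by
    show (1 : Matrix (Fin (n + 1)) (Fin (n + 1)) F) *ᵥ _ = _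
    rw [one_mulVec], by
    show _ ᵥ* (1 : Matrix (Fin (n + 1)) (Fin (n + 1)) F) = _
    rw [vecMul_one]⟩
  mul_mem' := by
    rintro g k ⟨h1, h2⟩ ⟨h3, h4⟩
    refine ⟨?_, ?_⟩
    · rw [mulv, ← mulVec_mulVec, h3, h1]
    · rw [mulv, ← vecMul_vecMul, h2, h4]
  inv_mem' := by
    rintro g ⟨h1, h2⟩
    exact ⟨inv_fix' h1, inv_fix h2⟩

theorem tv_mem_St {a b i j : Fin (n + 1)} (hij : i ≠ j) (hja : j ≠ a) (hib : i ≠ b) (c : F) :
    tv i j c ∈ St F a b := by
  constructor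
  · have h0 : (Pi.single j c : Fin (n + 1) → F) ⬝ᵥ Pi.single i 1 = 0 := by
      rw [dot_single, Pi.single_eq_of_ne hij]
    have h1 : (Pi.single j c : Fin (n + 1) → F) a = 0 := Pi.single_eq_of_ne hja.symm _
    rw [tv_eq hij, Tr_mulVec h0, dot_single, h1, zero_smul, add_zero]
  · have h0 : (Pi.single j 1 : Fin (n + 1) → F) ⬝ᵥ Pi.single i c = 0 := by
      rw [single_dot, Pi.single_eq_of_ne hij.symm]
    have h1 : (Pi.single i c : Fin (n + 1) → F) b = 0 := Pi.single_eq_of_ne hib.symm _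
    rw [tv_eq' hij, vecMul_Tr h0, single_dot, h1, zero_smul, add_zero]

include h in
theorem P_le {e : ProjectiveSpecialLinearGroup (Fin (n + 1)) F →* G} {a b : Fin (n + 1)} (hab : a ≠ b) :
    PR (Bf A) {x | IsRoot cs h x} (XG e) (rtA a b) ≤ (St F a b).map (e.comp (pr n F)) := by
  refine PR_le ?_
  intro x hx hx0 y hy
  obtain ⟨i, j, hij, rfl⟩ := exists_of_isRoot cs h hx
  obtain ⟨c, rfl⟩ := (mem_XG hij).1 hy
  obtain ⟨hja, hib⟩ := (bf_nonneg cs h hij hab).1 hx0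
  exact ⟨_, tv_mem_St hij hja hib c, rfl⟩

include hF in
/-- The groups of `TwoInst.Loc`. -/
theorem loc {e : ProjectiveSpecialLinearGroup (Fin (n + 1)) F →* G} {a b : Fin (n + 1)} (hab : a ≠ b) :
    Loc (e.comp (pr n F)) a b (XG e (rtA a b))
      (QS (XG e) (Ph1 (Bf A) {x | IsRoot cs h x} (rtA a b)) (rtA a b))
      (PR (Bf A) {x | IsRoot cs h x} (XG e) (rtA a b)) := by
  refine ⟨fun x => ?_, fun q => ⟨fun hq => ?_, ?_⟩, fun i j hij hja hib c => ?_, fun p hp => ?_⟩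
  · rw [mem_XG hab]
    constructor
    · rintro ⟨c, rfl⟩
      rcases hF c with rfl | rfl
      · left; rw [tv_zero, map_one]
      · right; rw [tv_eq hab]
    · rintro (rfl | rfl)
      · exact ⟨0, by rw [tv_zero, map_one]⟩
      · exact ⟨1, by rw [tv_eq hab]⟩
  · obtain ⟨_, ⟨φ, u, h1, h2, rfl⟩, rfl⟩ := Q_le cs h hab hq
    exact ⟨φ, u, h1, h2, rfl⟩
  · rintro ⟨φ, u, h1, h2, rfl⟩
    rw [map_mul]
    exact mul_mem (mem_Q cs h hab h1) (mem_Q' cs h hab h2)
  · exact le_PR (XG e) (isRoot_rtA cs h hij) ((bf_nonneg cs h hij hab).2 ⟨hja, hib⟩) ((mem_XG hij).2 ⟨c, rfl⟩)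
  · obtain ⟨g, ⟨h1, h2⟩, rfl⟩ := P_le cs h hab hp
    exact ⟨g, rfl, h1, h2⟩

/-! ### Combinatorics -/

theorem exists_avoid (hn : 4 ≤ n) (a b c d : Fin (n + 1)) : ∃ i : Fin (n + 1), i ≠ a ∧ i ≠ b ∧ i ≠ c ∧ i ≠ d := by
  by_contra hcon
  push Not at hcon
  have h1 : (Finset.univ : Finset (Fin (n + 1))) ⊆ {a, b, c, d} := by
    intro i _
    simp only [Finset.mem_insert, Finset.mem_singleton]
    by_contra h2
    push Not at h2
    exact h2.2.2.2 (hcon i h2.1 h2.2.1 h2.2.2.1)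
  have h2 := Finset.card_le_card h1
  have h3 : ({a, b, c, d} : Finset (Fin (n + 1))).card ≤ 4 := Finset.card_le_four
  rw [Finset.card_univ, Fintype.card_fin] at h2
  omega

include hF h in
theorem pt (hn : 4 ≤ n) {e : ProjectiveSpecialLinearGroup (Fin (n + 1)) F →* G} {a b : Fin (n + 1)} (hab : a ≠ b) :
    PT (Bf A) {x | IsRoot cs h x} (XG e) (rtA a b) (PR (Bf A) {x | IsRoot cs h x} (XG e) (rtA a b)) where
  sep := by
    rintro x ⟨hx, hx1⟩ x' ⟨hx', hx1'⟩ hne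
    obtain ⟨i, j, hij, rfl⟩ := exists_of_isRoot cs h hx
    obtain ⟨i', j', hij', rfl⟩ := exists_of_isRoot cs h hx'
    have key : ∀ k l : Fin (n + 1), k ≠ l → k ≠ a → k ≠ b → l ≠ a → l ≠ b →
        Bf A (rtA i j) (rtA k l) = 1 → Bf A (rtA i' j') (rtA k l) ≠ 1 →
        ∃ d ∈ {x | IsRoot cs h x}, XG e d ≤ PR (Bf A) {x | IsRoot cs h x} (XG e) (rtA a b) ∧ Bf A d (rtA a b) = 0 ∧
          Bf A (rtA i j) d = 1 ∧ Bf A (rtA i' j') d ≠ 1 := by
      intro k l hkl h1 h2 h3 h4 h5 h6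
      refine ⟨rtA k l, isRoot_rtA cs h hkl, ?_, ?_, h5, h6⟩
      · exact le_PR (XG e) (isRoot_rtA cs h hkl) ((bf_nonneg cs h hkl hab).2 ⟨h3, h2⟩)
      · rw [bf_rtA cs h k l hab, if_neg h1, if_neg h2, if_neg h3, if_neg h4]
        norm_num
    have hne' : ¬ (i' = i ∧ j' = j) := by
      rintro ⟨rfl, rfl⟩
      exact hne rfl
    rcases (bf_one cs h hij hab).1 hx1 with ⟨rfl, hj⟩ | ⟨hi, rfl⟩
    · obtain ⟨k, hk1, hk2, hk3, hk4⟩ := exists_avoid hn i b j i'
      refine key k j hk3 hk1 hk2 hij.symm hj ?_ ?_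
      · rw [bf_rtA cs h i j hk3, if_neg hk1.symm, if_neg hij, if_neg hk3.symm, if_pos rfl]
        norm_num
      · rw [bf_rtA cs h i' j' hk3, if_neg hk4.symm]
        rcases (bf_one cs h hij' hab).1 hx1' with ⟨rfl, hj'⟩ | ⟨hi', rfl⟩
        · rw [if_neg (show ¬ j' = j from fun e => hne' ⟨rfl, e⟩), if_neg hij]
          split_ifs <;> norm_num
        · rw [if_neg hk2.symm, if_neg hj.symm]
          split_ifs <;> norm_num
    · obtain ⟨k, hk1, hk2, hk3, hk4⟩ := exists_avoid hn a j i j'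
      refine key i k hk3.symm hi hij hk1 hk2 ?_ ?_
      · rw [bf_rtA cs h i j hk3.symm, if_pos rfl, if_neg hk3.symm, if_neg hij.symm, if_neg hk2.symm]
        norm_num
      · rw [bf_rtA cs h i' j' hk3.symm, if_neg hk4.symm]
        rcases (bf_one cs h hij' hab).1 hx1' with ⟨rfl, hj'⟩ | ⟨hi', rfl⟩
        · rw [if_neg hi.symm, if_neg hk1.symm]
          split_ifs <;> norm_num
        · rw [if_neg (show ¬ i' = i from fun e => hne' ⟨e, rfl⟩), if_neg hij.symm]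
          split_ifs <;> norm_num
  tor := by
    rintro x ⟨hx, hx1⟩ y hy z hz hy1 hz1
    refine ⟨1, one_mem _, ?_⟩
    obtain ⟨i, j, hij, rfl⟩ := exists_of_isRoot cs h hx
    obtain ⟨c, rfl⟩ := (mem_XG hij).1 hy
    obtain ⟨d, rfl⟩ := (mem_XG hij).1 hz
    have hc : c ≠ 0 := by
      rintro rfl
      exact hy1 (by rw [tv_zero, map_one])
    have hd : d ≠ 0 := by
      rintro rfl
      exact hz1 (by rw [tv_zero, map_one])
    rw [(hF c).resolve_left hc, (hF d).resolve_left hd, one_mul, inv_one, mul_one]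

include hF h in
/-- **The doubled root group of `L_{n+1}(2)`, `n ≥ 4`.** -/
theorem exists_two (hn : 4 ≤ n) {e : ProjectiveSpecialLinearGroup (Fin (n + 1)) F →* G} (he : Function.Injective e)
    [Finite G] {t : G} (het : ∀ g, e g * t = t * e g) {a b : Fin (n + 1)} (hab : a ≠ b) {T : Subgroup G}
    (K : KR t (Bf A) {x | IsRoot cs h x} (XG e) (rtA a b) (PR (Bf A) {x | IsRoot cs h x} (XG e) (rtA a b)) T)
    {m : G} (hX : ∀ x ∈ XG e (rtA a b), m * x * m⁻¹ ∈ XG e (rtA a b)) (ht : t * (m * t * m⁻¹) ∈ XG e (rtA a b))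
    (hnt : m * t * m⁻¹ ≠ t) :
    ∃ W, KR.Out t (XG e (rtA a b)) (PR (Bf A) {x | IsRoot cs h x} (XG e) (rtA a b)) T W ∧ (∀ w ∈ W, w * w = 1) ∧
      ∀ k, Nice t (XG e (rtA a b)) (PR (Bf A) {x | IsRoot cs h x} (XG e) (rtA a b)) 1 k → ∀ w ∈ W,
        k * w * k⁻¹ ∈ W := by
  have hz : ∀ x ∈ XG e (rtA a b), x = 1 ∨ x = e.comp (pr n F) (Tr (Pi.single a 1) (Pi.single b 1)) :=
    fun x hx => ((loc cs h hF hab).X x).1 hx
  have hf : Function.Injective (e.comp (pr n F)) := by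
    rw [MonoidHom.coe_comp]
    exact he.comp (pr_injective hF)
  have Tw := two hF (t := t) hf hab (loc cs h hF (e := e) hab) (fun g => het _) ?_ ?_
  · have S := K.setup
    have hn : m ∈ S.N := by
      refine ⟨hX, fun x hx => ?_, ht⟩
      have := (K.inv_norm hX ht).1 x hx
      rwa [inv_inv] at this
    obtain ⟨m', hm', hmt', hmR, -⟩ := Tw.exists_fix S hn hnt
    obtain ⟨p0, hp0, hin⟩ := Tw.exists_inner S hm' hmR
    exact K.exists_two (pt cs h hF ‹4 ≤ n› hab) hz hm'.1 hm'.2.2 hmt' hp0 hin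
  · intro i hi1 hi2
    obtain ⟨j, h1, h2, h3, -⟩ := exists_avoid hn a b i i
    obtain ⟨l, h4, h5, h6, h7⟩ := exists_avoid hn a b i j
    exact ⟨j, l, h1, h2, h4, h5, h3.symm, h6.symm, h7.symm⟩
  · obtain ⟨j, h1, h2, h3, -⟩ := exists_avoid hn a b a a
    exact ⟨j, h1, h2⟩

end Cfsg.Agent.OddHalf.D7An.LocOf

end
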